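import Mathlib.RingTheory.Polynomial.IsIntegral
import Mathlib.RingTheory.Norm.Transitivity
import Mathlib.FieldTheory.IntermediateField.Adjoin.Basic
import Mathlib.RingTheory.Localization.Integral

/-!
# The constant coefficient of a minimal polynomial as a substitute for the norm
-/

universe u v

open Polynomial IntermediateField

namespace ChevLib

variable {K L : Type*} [Field K] [Field L] [Algebra K L]

/-- The constant coefficient of the minimal polynomial. -/
noncomputable def cst (K : Type*) {L : Type*} [Field K] [Field L] [Algebra K L] (x : L) : K :=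
  (minpoly K x).coeff 0

/-- Coefficients of the minimal polynomial of an integral element are integral. -/
lemma isIntegral_minpoly_coeff {A : Type*} [CommRing A] [Algebra A K] [Algebra A L]
    [IsScalarTower A K L] {x : L} (hx : IsIntegral A x) (i : ℕ) :
    IsIntegral A ((minpoly K x).coeff i) := by
  obtain ⟨p, hp, hpx⟩ := hx
  refine isIntegral_coeff_of_dvd p _ hp (minpoly.monic ⟨p.map (algebraMap A K), hp.map _, ?_⟩)
    (minpoly.dvd K x ?_) i
  · rwa [eval₂_map, ← IsScalarTower.algebraMap_eq]
  · rw [aeval_map_algebraMap, aeval_def]; exact hpx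

/-- An element divides the constant coefficient of its minimal polynomial, in any subring
containing it and the coefficients. -/
lemma exists_eq_mul_of_mem (M : Subring L) {x : L} (hx : x ∈ M)
    (hc : ∀ i, algebraMap K L ((minpoly K x).coeff i) ∈ M) :
    ∃ w ∈ M, algebraMap K L (cst K x) = x * w := by
  let p := minpoly K x
  refine ⟨-(aeval x p.divX), neg_mem ?_, ?_⟩
  · rw [aeval_eq_sum_range]
    refine sum_mem fun i _ => ?_
    rw [Algebra.smul_def, coeff_divX]
    exact mul_mem (hc _) (pow_mem hx _)
  · have h := congrArg (aeval x) p.X_mul_divX_add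
    rw [map_add, map_mul, aeval_X, aeval_C, minpoly.aeval] at h
    rw [mul_neg, eq_neg_iff_add_eq_zero, add_comm]
    exact h

/-- If the inverse of `x` is integral, so is the inverse of the constant coefficient. -/
lemma isIntegral_cst_inv {A : Type*} [CommRing A] [Algebra A K] [Algebra A L]
    [IsScalarTower A K L] {x : L} (hx : IsIntegral K x) (hinv : IsIntegral A x⁻¹) :
    IsIntegral A (cst K x)⁻¹ := by
  have : FiniteDimensional K K⟮x⟯ := adjoin.finiteDimensional hx
  let g : K⟮x⟯ := AdjoinSimple.gen K x
  have h1 : IsIntegral A g⁻¹ := by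
    refine (isIntegral_algHom_iff ((K⟮x⟯.val).restrictScalars A) ?_).mp ?_
    · exact Subtype.val_injective
    · exact hinv
  have h2 := Algebra.isIntegral_norm K h1
  rw [Algebra.norm_inv] at h2
  have h3 := Algebra.PowerBasis.norm_gen_eq_coeff_zero_minpoly (adjoin.powerBasis hx)
  rw [adjoin.powerBasis_gen, minpoly_gen] at h3
  rw [show g = AdjoinSimple.gen K x from rfl, h3, mul_inv] at h2
  have h4 : IsIntegral A (((-1 : K) ^ (adjoin.powerBasis hx).dim)) :=
    (IsIntegral.neg isIntegral_one).pow _
  have h5 := h4.mul h2
  rwa [← mul_assoc, mul_inv_cancel₀ (pow_ne_zero _ (neg_ne_zero.mpr one_ne_zero)), one_mul] at h5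

end ChevLib
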