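import Groth.Agent.ChevLib.Reduced
import Groth.Agent.ChevLib.Alg
import Mathlib.AlgebraicGeometry.FunctionField
import Mathlib.AlgebraicGeometry.AffineSpace
import Mathlib.AlgebraicGeometry.Morphisms.Finite
import Mathlib.AlgebraicGeometry.Morphisms.Proper

/-!
# An integral scheme with an integral surjection from an affine scheme is affine
(assuming all proper closed subschemes are affine)
-/

universe u

open CategoryTheory Limits AlgebraicGeometry TopologicalSpace

namespace ChevLib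

section

variable {X Z : Scheme.{u}} (f : X ⟶ Z) [IsIntegral X] [IsIntegral Z] [IsDominant f]

omit [IsDominant f] in
lemma genericPoint_mem {U : Z.Opens} (h : (U : Set Z).Nonempty) : genericPoint Z ∈ U :=
  ((genericPoint_spec Z).mem_open_set_iff U.isOpen).mpr (by simpa using h)

lemma apply_genericPoint : f (genericPoint X) = genericPoint Z := by
  refine (((genericPoint_spec X).image f.continuous).eq ?_)
  convert genericPoint_spec Z using 1
  rw [Set.image_univ]
  exact f.denseRange.closure_range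

lemma genericPoint_mem_preimage {V : Z.Opens} (h : genericPoint Z ∈ V) :
    genericPoint X ∈ f ⁻¹ᵁ V := by
  show f (genericPoint X) ∈ V
  rwa [apply_genericPoint]

/-- The map of function fields induced by a dominant morphism. -/
noncomputable def ffMap : Z.functionField ⟶ X.functionField :=
  Z.presheaf.stalkSpecializes (specializes_of_eq (apply_genericPoint f)) ≫
    f.stalkMap (genericPoint X)

lemma ffMap_germ {V : Z.Opens} (h : genericPoint Z ∈ V) :
    Z.presheaf.germ V _ h ≫ ffMap f =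
      f.app V ≫ X.presheaf.germ (f ⁻¹ᵁ V) _ (genericPoint_mem_preimage f h) := by
  rw [ffMap, ← Category.assoc, TopCat.Presheaf.germ_stalkSpecializes, Scheme.Hom.germ_stalkMap]

lemma Spec_map_ffMap_fromSpecStalk :
    Spec.map (ffMap f) ≫ Z.fromSpecStalk (genericPoint Z) =
      X.fromSpecStalk (genericPoint X) ≫ f := by
  rw [ffMap, Spec.map_comp, Category.assoc, Scheme.SpecMap_stalkSpecializes_fromSpecStalk,
    Scheme.SpecMap_stalkMap_fromSpecStalk]

end

variable (Z X : Scheme.{u}) (f : X ⟶ Z) [IsIntegral Z] [IsIntegral X] [Z.IsSeparated] [IsAffine X]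
  [Surjective f] [IsIntegralHom f]

set_option maxHeartbeats 800000 in
include f in
/-- The key case of Chevalley's theorem. -/
theorem isAffine_of_isIntegral_isIntegral
    (hprop : ∀ I : Z.IdealSheafData, I ≠ ⊥ → IsAffine I.subscheme) : IsAffine Z := by
  classical
  have : IsDominant f := ⟨f.surjective.denseRange⟩
  have : CompactSpace Z := f.surjective.compactSpace f.continuous
  let K := Z.functionField
  let L := X.functionField
  let ψ : K →+* L := (ffMap f).hom
  let _ : Algebra K L := ψ.toAlgebra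
  let gZ (V : Z.Opens) (h : genericPoint Z ∈ V) : Γ(Z, V) →+* K :=
    (Z.presheaf.germ V _ h).hom
  let gX (W : X.Opens) (h : genericPoint X ∈ W) : Γ(X, W) →+* L :=
    (X.presheaf.germ W _ h).hom
  let β : Γ(X, ⊤) →+* L := gX ⊤ trivial
  let _ : Algebra Γ(X, ⊤) L := β.toAlgebra
  let M : Subalgebra Γ(X, ⊤) L := integralClosure Γ(X, ⊤) L
  have hψg : ∀ (V : Z.Opens) (h : genericPoint Z ∈ V) (x : Γ(Z, V)),
      ψ (gZ V h x) = gX (f ⁻¹ᵁ V) (genericPoint_mem_preimage f h) ((f.app V).hom x) :=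
    fun V h x => congr($(ffMap_germ f h).hom x)
  -- localisation: integral over `Γ(Z, V)` near `q` gives a multiple in `M`
  have hloc : ∀ (V : Z.Opens) (h : genericPoint Z ∈ V) (q : X), f q ∈ V → ∀ x : L,
      (ψ.comp (gZ V h)).IsIntegralElem x →
      ∃ s : Γ(X, ⊤), q ∈ X.basicOpen s ∧ ∃ k : ℕ, β s ^ k * x ∈ M := by
    intro V h q hq x hx
    obtain ⟨s, hsV, hqs⟩ := (isAffineOpen_top X).exists_basicOpen_le (V := f ⁻¹ᵁ V) ⟨q, hq⟩ trivial
    refine ⟨s, hqs, ?_⟩
    have hgen : genericPoint X ∈ X.basicOpen s := genericPoint_mem ⟨q, hqs⟩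
    let : Algebra Γ(X, ⊤) Γ(X, X.basicOpen s) := (res le_top).toAlgebra
    have : IsLocalization.Away s Γ(X, X.basicOpen s) :=
      (isAffineOpen_top X).isLocalization_basicOpen s
    let : Algebra Γ(X, X.basicOpen s) L := (gX _ hgen).toAlgebra
    have : IsScalarTower Γ(X, ⊤) Γ(X, X.basicOpen s) L := .of_algebraMap_eq fun a =>
      (congr($(X.presheaf.germ_res (homOfLE le_top) _ hgen).hom a)).symm
    have hx' : IsIntegral Γ(X, X.basicOpen s) x := by
      obtain ⟨p, hp, hpx⟩ := hx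
      refine ⟨p.map ((f.appLE V (X.basicOpen s) hsV).hom), hp.map _, ?_⟩
      rw [Polynomial.eval₂_map]
      convert hpx using 2
      ext a
      show gX _ hgen ((f.appLE V (X.basicOpen s) hsV).hom a) = ψ (gZ V h a)
      rw [hψg, Scheme.Hom.appLE]
      exact congr($(X.presheaf.germ_res (homOfLE hsV) _ hgen).hom ((f.app V).hom a))
    obtain ⟨⟨_, k, rfl⟩, hk⟩ :=
      hx'.exists_multiple_integral_of_isLocalization (Submonoid.powers s) (R := Γ(X, ⊤))
    refine ⟨k, ?_⟩
    have : IsIntegral Γ(X, ⊤) (algebraMap Γ(X, ⊤) L (s ^ k) * x) := by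
      rw [← Algebra.smul_def]; exact hk
    rwa [map_pow] at this
  -- elements integral over all `Γ(Z, V)` lie in `M`
  have hM : ∀ x : L, (∀ (V : Z.Opens) (h : genericPoint Z ∈ V), IsAffineOpen V →
      (ψ.comp (gZ V h)).IsIntegralElem x) → x ∈ M := by
    intro x hx
    let D : Ideal Γ(X, ⊤) :=
      M.toSubmodule.comap (LinearMap.toSpanSingleton Γ(X, ⊤) L x)
    suffices hD : D = ⊤ by
      have := (Ideal.eq_top_iff_one _).mp hD
      simpa [D] using this
    by_contra hD
    obtain ⟨m, hm, hDm⟩ := D.exists_le_maximal hD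
    let q : X := (isAffineOpen_top X).fromSpec ⟨m, hm.isPrime⟩
    obtain ⟨_, ⟨V, hV, rfl⟩, hqV, -⟩ :=
      Z.isBasis_affineOpens.exists_subset_of_mem_open (Set.mem_univ (f q)) isOpen_univ
    have hgV := genericPoint_mem (U := V) ⟨_, hqV⟩
    obtain ⟨s, hqs, k, hk⟩ := hloc V hgV q hqV x (hx V hgV hV)
    have hsD : s ^ k ∈ D := by
      show (s ^ k) • x ∈ M
      rw [Algebra.smul_def, map_pow]; exact hk
    have hsm : s ∈ m := hm.isPrime.mem_of_pow_mem k (hDm hsD)
    have : (⟨m, hm.isPrime⟩ : PrimeSpectrum Γ(X, ⊤)) ∈ PrimeSpectrum.basicOpen s := by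
      rw [← (isAffineOpen_top X).fromSpec_preimage_basicOpen]; exact hqs
    exact this hsm
  -- global functions on `X` are integral over every `Γ(Z, V)`
  have hint : ∀ (V : Z.Opens) (h : genericPoint Z ∈ V), IsAffineOpen V →
      ∀ a : Γ(X, f ⁻¹ᵁ V), (ψ.comp (gZ V h)).IsIntegralElem
        (gX _ (genericPoint_mem_preimage f h) a) := by
    intro V h hV a
    obtain ⟨p, hp, hpa⟩ := f.isIntegral_app V hV a
    refine ⟨p, hp, ?_⟩
    have := Polynomial.hom_eval₂ p (f.app V).hom (gX _ (genericPoint_mem_preimage f h)) a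
    rw [hpa, map_zero] at this
    rw [show ψ.comp (gZ V h) = (gX _ (genericPoint_mem_preimage f h)).comp (f.app V).hom from
      RingHom.ext (hψg V h)]
    exact this.symm
  have hintβ : ∀ (a : Γ(X, ⊤)) (V : Z.Opens) (h : genericPoint Z ∈ V), IsAffineOpen V →
      (ψ.comp (gZ V h)).IsIntegralElem (β a) := by
    intro a V h hV
    have := hint V h hV (res le_top a)
    rwa [show gX _ (genericPoint_mem_preimage f h) (res le_top a) = β a from
      congr($(X.presheaf.germ_res (homOfLE le_top) _ _).hom a)] at this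
  have hintK : ∀ a : Γ(X, ⊤), IsIntegral K (β a) := by
    intro a
    obtain ⟨_, ⟨V, hV, rfl⟩, hz, -⟩ :=
      Z.isBasis_affineOpens.exists_subset_of_mem_open (Set.mem_univ (genericPoint Z)) isOpen_univ
    obtain ⟨p, hp, hpa⟩ := hintβ a V hz hV
    exact ⟨p.map (gZ V hz), hp.map _, by rw [Polynomial.eval₂_map]; exact hpa⟩
  have hcoeff : ∀ (a : Γ(X, ⊤)) (i : ℕ), ψ ((minpoly K (β a)).coeff i) ∈ M := by
    intro a i
    refine hM _ fun V h hV => ?_
    let : Algebra Γ(Z, V) K := (gZ V h).toAlgebra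
    let : Algebra Γ(Z, V) L := (ψ.comp (gZ V h)).toAlgebra
    have : IsScalarTower Γ(Z, V) K L := .of_algebraMap_eq fun _ => rfl
    have h1 : IsIntegral Γ(Z, V) (β a) := hintβ a V h hV
    exact (isIntegral_minpoly_coeff h1 i).map (IsScalarTower.toAlgHom Γ(Z, V) K L)
  have hcstM : ∀ a : Γ(X, ⊤), ψ (cst K (β a)) ∈ M := fun a => hcoeff a 0
  -- the subring of `K` and its integral extension `M`
  let R : Subring K := M.toSubring.comap ψ
  let ρ : R →+* M.toSubring := ψ.restrict R M.toSubring fun x hx => hx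
  let _ : Algebra R M.toSubring := ρ.toAlgebra
  have hρinj : Function.Injective ρ := fun x y h =>
    Subtype.ext (ψ.injective (congrArg Subtype.val h))
  have hRM : Algebra.IsIntegral R M.toSubring := by
    let : Algebra R L := (ψ.comp R.subtype).toAlgebra
    have hB : ∀ a : Γ(X, ⊤), IsIntegral R (β a) := by
      intro a
      obtain ⟨p, hp, -, hpm⟩ := Polynomial.lifts_and_degree_eq_and_monic
        ((Polynomial.lifts_iff_coeff_lifts (f := R.subtype) _).mpr fun i =>
          ⟨⟨(minpoly K (β a)).coeff i, hcoeff a i⟩, rfl⟩) (minpoly.monic (hintK a))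
      refine ⟨p, hpm, ?_⟩
      show p.eval₂ (ψ.comp R.subtype) (β a) = 0
      rw [← Polynomial.eval₂_map, hp]
      exact minpoly.aeval K (β a)
    constructor
    intro x
    let incl : M.toSubring →ₐ[R] L := { M.toSubring.subtype with commutes' := fun _ => rfl }
    refine (isIntegral_algHom_iff incl Subtype.val_injective).mp ?_
    show IsIntegral R (x : L)
    obtain ⟨p, hp, hpx⟩ : IsIntegral Γ(X, ⊤) (x : L) := x.2
    by_cases hd : (p.map β).natDegree = 0
    · have h1 := Polynomial.eq_one_of_monic_natDegree_zero (hp.map β) hd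
      have h2 : (p.map β).eval (x : L) = 0 := by rw [Polynomial.eval_map]; exact hpx
      rw [h1, Polynomial.eval_one] at h2
      exact absurd h2 one_ne_zero
    refine IsIntegral.of_aeval_monic_of_isIntegral_coeff (hp.map β) hd ?_ fun i => ?_
    · rw [Polynomial.eval_map]
      rw [show Polynomial.eval₂ β (x : L) p = 0 from hpx]
      exact isIntegral_zero
    · rw [Polynomial.coeff_map]; exact hB _
  -- separating functions
  have hsep : ∀ z : Z, ∃ (a : Γ(X, ⊤)) (U : Z.affineOpens) (W : Z.Opens), z ∈ W ∧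
      f ⁻¹ᵁ W ≤ X.basicOpen a ∧ X.basicOpen a ≤ f ⁻¹ᵁ U.1 := by
    intro z
    obtain ⟨z₀, hz₀, hcl⟩ := IsClosed.exists_closed_singleton (X := Z) isClosed_closure
      (Set.nonempty_of_mem (subset_closure (Set.mem_singleton z)))
    obtain ⟨_, ⟨U, hU, rfl⟩, hzU, -⟩ :=
      Z.isBasis_affineOpens.exists_subset_of_mem_open (Set.mem_univ z₀) isOpen_univ
    let e := (isAffineOpen_top X).fromSpec
    let F : Set (PrimeSpectrum Γ(X, ⊤)) := e ⁻¹' (f ⁻¹' {z₀})
    let T : Set (PrimeSpectrum Γ(X, ⊤)) := e ⁻¹' (f ⁻¹' (U : Set Z)ᶜ)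
    have hF : IsClosed F := (hcl.preimage f.continuous).preimage e.continuous
    have hT : IsClosed T := (U.isOpen.isClosed_compl.preimage f.continuous).preimage e.continuous
    have hcop : PrimeSpectrum.vanishingIdeal F ⊔ PrimeSpectrum.vanishingIdeal T = ⊤ := by
      rw [← PrimeSpectrum.zeroLocus_empty_iff_eq_top, PrimeSpectrum.zeroLocus_sup,
        PrimeSpectrum.zeroLocus_vanishingIdeal_eq_closure,
        PrimeSpectrum.zeroLocus_vanishingIdeal_eq_closure, hF.closure_eq, hT.closure_eq]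
      refine Set.eq_empty_of_forall_notMem fun p hp => hp.2 ?_
      have h1 : f (e p) = z₀ := hp.1
      show f (e p) ∈ U
      rw [h1]; exact hzU
    obtain ⟨b, hb, a, ha, hab⟩ := Submodule.mem_sup.mp ((Ideal.eq_top_iff_one _).mp hcop)
    rw [PrimeSpectrum.mem_vanishingIdeal] at hb ha
    have hmem : ∀ p : PrimeSpectrum Γ(X, ⊤), e p ∈ X.basicOpen a ↔ a ∉ p.asIdeal := by
      intro p
      show p ∈ e ⁻¹ᵁ X.basicOpen a ↔ _
      rw [(isAffineOpen_top X).fromSpec_preimage_basicOpen]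
      rfl
    have hsurj : ∀ x : X, ∃ p, e p = x := fun x =>
      (by rw [IsAffineOpen.range_fromSpec]; trivial : x ∈ Set.range e)
    refine ⟨a, ⟨U, hU⟩, ⟨(f '' (X.basicOpen a : Set X)ᶜ)ᶜ,
      (f.isClosedMap _ (X.basicOpen a).isOpen.isClosed_compl).isOpen_compl⟩, ?_, ?_, ?_⟩
    · intro hz
      have hz' : z₀ ∈ f '' (X.basicOpen a : Set X)ᶜ :=
        (specializes_iff_mem_closure.mpr hz₀).mem_closed
          (f.isClosedMap _ (X.basicOpen a).isOpen.isClosed_compl) hz
      obtain ⟨x, hx, hxz⟩ := hz'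
      obtain ⟨p, rfl⟩ := hsurj x
      refine hx ((hmem p).mpr fun hap => ?_)
      have h1 := p.isPrime.one_notMem
      rw [← hab] at h1
      exact h1 (add_mem (hb p hxz) hap)
    · intro x hx
      by_contra hxa
      exact hx ⟨x, hxa, rfl⟩
    · intro x hx
      obtain ⟨p, rfl⟩ := hsurj x
      by_contra hxU
      exact (hmem p).mp hx (ha p hxU)
  choose a U W hW hWa haU using hsep
  obtain ⟨σ, hσ⟩ := isCompact_univ.elim_finite_subcover (fun z => (W z : Set Z))
    (fun z => (W z).isOpen) (fun z _ => Set.mem_iUnion.mpr ⟨z, hW z⟩)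
  have hσ' : ∀ y : Z, ∃ z : σ, y ∈ W z.1 := fun y => by
    obtain ⟨z, hz, hy⟩ := Set.mem_iUnion₂.mp (hσ (Set.mem_univ y))
    exact ⟨⟨z, hz⟩, hy⟩
  let c (z : σ) : R := ⟨cst K (β (a z.1)), hcstM _⟩
  -- the `c z` generate the unit ideal of `R`
  have hspan : Ideal.span (Set.range c) = ⊤ := by
    by_contra hne
    obtain ⟨m, hm, hle⟩ := Ideal.exists_le_maximal _ hne
    obtain ⟨P, hP, hPm⟩ := Ideal.exists_ideal_over_prime_of_isIntegral_of_isDomain
      (S := M.toSubring) m ((RingHom.injective_iff_ker_eq_bot ρ).mp hρinj ▸ bot_le)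
    have : P.IsPrime := hP
    let ιB : Γ(X, ⊤) →+* M.toSubring := β.codRestrict M.toSubring fun b => M.algebraMap_mem b
    let p : PrimeSpectrum Γ(X, ⊤) := ⟨P.comap ιB, inferInstance⟩
    let q : X := (isAffineOpen_top X).fromSpec p
    obtain ⟨z, hz⟩ := hσ' (f q)
    obtain ⟨_, ⟨V, hV, rfl⟩, hqV, hVW⟩ :=
      Z.isBasis_affineOpens.exists_subset_of_mem_open hz (W z.1).isOpen
    have hgV := genericPoint_mem (U := V) ⟨_, hqV⟩
    have hu : IsUnit (res (le_top (a := f ⁻¹ᵁ V)) (a z.1)) := by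
      have h0 := (RingedSpace.isUnit_res_basicOpen X.toRingedSpace (a z.1)).map
        (res ((f.preimage_mono hVW).trans (hWa z.1)))
      convert h0 using 1
      exact (res_res (X.basicOpen_le (a z.1)) _ (a z.1)).symm
    obtain ⟨u, hu⟩ := hu
    have hgu : gX _ (genericPoint_mem_preimage f hgV) (u : Γ(X, f ⁻¹ᵁ V)) = β (a z.1) := by
      rw [hu]; exact congr($(X.presheaf.germ_res (homOfLE le_top) _ _).hom (a z.1))
    have hne0 : β (a z.1) ≠ 0 := by rw [← hgu]; exact (u.isUnit.map _).ne_zero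
    have hinv : (ψ.comp (gZ V hgV)).IsIntegralElem (ψ (cst K (β (a z.1))))⁻¹ := by
      let : Algebra Γ(Z, V) K := (gZ V hgV).toAlgebra
      let : Algebra Γ(Z, V) L := (ψ.comp (gZ V hgV)).toAlgebra
      have : IsScalarTower Γ(Z, V) K L := .of_algebraMap_eq fun _ => rfl
      have h1 : IsIntegral Γ(Z, V) (β (a z.1))⁻¹ := by
        have := hint V hgV hV ((u⁻¹ : Γ(X, f ⁻¹ᵁ V)ˣ) : Γ(X, f ⁻¹ᵁ V))
        rwa [map_units_inv, hgu] at this
      have h2 := (isIntegral_cst_inv (hintK (a z.1)) h1).map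
        (IsScalarTower.toAlgHom Γ(Z, V) K L)
      rw [IsScalarTower.coe_toAlgHom', map_inv₀] at h2
      exact h2
    obtain ⟨s, hqs, k, hk⟩ := hloc V hgV q hqV _ hinv
    have hc0 : ψ (cst K (β (a z.1))) ≠ 0 :=
      (map_ne_zero ψ).mpr (minpoly.coeff_zero_ne_zero (hintK (a z.1)) hne0)
    have hcP : ρ (c z) ∈ P := by
      have h1 : c z ∈ P.comap (algebraMap R M.toSubring) := by
        rw [hPm]; exact hle (Ideal.subset_span ⟨z, rfl⟩)
      exact h1
    have hsP : ιB s ^ k ∈ P := by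
      have : ιB s ^ k = (⟨_, hk⟩ : M.toSubring) * ρ (c z) := Subtype.ext (by
        show β s ^ k = β s ^ k * (ψ (cst K (β (a z.1))))⁻¹ * ψ (cst K (β (a z.1)))
        rw [inv_mul_cancel_right₀ hc0])
      rw [this]; exact Ideal.mul_mem_left _ _ hcP
    have hs : s ∈ p.asIdeal := hP.mem_of_pow_mem k hsP
    have : p ∈ PrimeSpectrum.basicOpen s := by
      rw [← (isAffineOpen_top X).fromSpec_preimage_basicOpen]; exact hqs
    exact this hs
  obtain ⟨r, hr⟩ := Ideal.mem_span_range_iff_exists_fun.mp ((Ideal.eq_top_iff_one _).mp hspan)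
  -- the finite birational modification
  let v : σ ⊕ σ → R := Sum.elim c r
  let g : Spec K ⟶ 𝔸(σ ⊕ σ; Z) := AffineSpace.homOfVector (Z.fromSpecStalk (genericPoint Z))
    fun i => (Scheme.ΓSpecIso K).inv.hom (v i : K)
  let MR := CommRingCat.of M.toSubring
  let ιBM : Γ(X, ⊤) ⟶ MR :=
    CommRingCat.ofHom (β.codRestrict M.toSubring fun b => M.algebraMap_mem b)
  let πM : Spec MR ⟶ Z := Spec.map ιBM ≫ X.isoSpec.inv ≫ f
  let gM : Spec MR ⟶ 𝔸(σ ⊕ σ; Z) := AffineSpace.homOfVector πM
    fun i => (Scheme.ΓSpecIso MR).inv.hom (ρ (v i))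
  let j : Spec L ⟶ Spec MR := Spec.map (CommRingCat.ofHom M.toSubring.subtype)
  have hjg : j ≫ gM = Spec.map (ffMap f) ≫ g := by
    apply AffineSpace.hom_ext
    · simp only [gM, g, Category.assoc, AffineSpace.homOfVector_over, πM, j,
        Spec_map_ffMap_fromSpecStalk, ← Spec.map_comp_assoc]
      rw [← Category.assoc]
      congr 1
      rw [Iso.comp_inv_eq, Scheme.isoSpec_hom, Scheme.fromSpecStalk_toSpecΓ]
      rfl
    · intro i
      simp only [gM, g, Scheme.Hom.comp_appTop, CommRingCat.comp_apply,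
        AffineSpace.homOfVector_appTop_coord, j]
      have h1 := congr($(Scheme.ΓSpecIso_inv_naturality
        (CommRingCat.ofHom M.toSubring.subtype)).hom (ρ (v i)))
      have h2 := congr($(Scheme.ΓSpecIso_inv_naturality (ffMap f)).hom (v i : K))
      exact h1.symm.trans h2
  have : IsIntegralHom (Spec.map ιBM) := by
    refine IsIntegralHom.SpecMap_iff.mpr ?_
    intro x
    obtain ⟨p, hp, hpx⟩ : IsIntegral Γ(X, ⊤) (x : L) := x.2
    refine ⟨p, hp, Subtype.val_injective ?_⟩
    show M.toSubring.subtype _ = M.toSubring.subtype 0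
    rw [Polynomial.hom_eval₂, map_zero]
    exact hpx
  have hjker : j.ker = ⊥ := by
    apply Scheme.IdealSheafData.ext_of_isAffine
    rw [Scheme.Hom.ker_apply, Scheme.IdealSheafData.ideal_bot, Pi.bot_apply,
      ← RingHom.injective_iff_ker_eq_bot]
    have := Scheme.ΓSpecIso_naturality (CommRingCat.ofHom M.toSubring.subtype)
    have heq : j.appTop = (Scheme.ΓSpecIso MR).hom ≫ CommRingCat.ofHom M.toSubring.subtype ≫
        (Scheme.ΓSpecIso L).inv := by
      rw [← Category.assoc, ← this, Category.assoc]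
      erw [Iso.hom_inv_id, Category.comp_id]
      rfl
    show Function.Injective j.appTop
    rw [heq]
    exact (ConcreteCategory.bijective_of_isIso (Scheme.ΓSpecIso L).inv).1.comp
      (Subtype.val_injective.comp (ConcreteCategory.bijective_of_isIso (Scheme.ΓSpecIso MR).hom).1)
  have : QuasiCompact g := inferInstance
  let Z' := g.image
  let ν : Z' ⟶ Z := g.imageι ≫ 𝔸(σ ⊕ σ; Z) ↘ Z
  have hker : g.ker ≤ gM.ker := by
    calc g.ker ≤ (Spec.map (ffMap f) ≫ g).ker := Scheme.Hom.le_ker_comp _ _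
      _ = (j ≫ gM).ker := by rw [hjg]
      _ = gM.ker := by rw [Scheme.Hom.ker_comp, hjker, Scheme.IdealSheafData.map_bot]
  let h : Spec MR ⟶ Z' := IsClosedImmersion.lift g.imageι gM (by simpa using hker)
  have hh : h ≫ g.imageι = gM := IsClosedImmersion.lift_fac _ _ _
  have hν : h ≫ ν = πM := by
    rw [← Category.assoc, hh, AffineSpace.homOfVector_over]
  have : IsAffineHom ν := inferInstance
  have hhu : UniversallyClosed h := by
    have : UniversallyClosed (h ≫ ν) := by rw [hν]; infer_instance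
    exact .of_comp_of_isSeparated _ ν
  have hjh : j ≫ h = Spec.map (ffMap f) ≫ g.toImage := by
    rw [← cancel_mono g.imageι, Category.assoc, hh, Category.assoc, Scheme.Hom.toImage_imageι, hjg]
  have : IsDominant h := by
    constructor
    refine g.toImage.denseRange.mono ?_
    rintro _ ⟨p, rfl⟩
    let l : Spec L := Nonempty.some inferInstance
    refine ⟨j l, ?_⟩
    rw [← Scheme.Hom.comp_apply, hjh, Scheme.Hom.comp_apply]
    congr 1
    exact Subsingleton.elim (α := PrimeSpectrum K) _ _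
  have : Surjective h := ⟨Set.range_eq_univ.mp
    (by rw [← h.isClosedMap.isClosed_range.closure_eq, h.denseRange.closure_range])⟩
  have : UniversallyClosed ν := by
    have : UniversallyClosed (h ≫ ν) := by rw [hν]; infer_instance
    exact .of_comp_surjective h ν
  have : IsIntegralHom ν := by
    rw [IsIntegralHom.iff_universallyClosed_and_isAffineHom]; exact ⟨inferInstance, inferInstance⟩
  have : LocallyOfFiniteType ν := inferInstance
  have : IsFinite ν := (IsFinite.iff_isIntegralHom_and_locallyOfFiniteType ν).mpr ⟨‹_›, ‹_›⟩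
  have hgν : g.toImage ≫ ν = Z.fromSpecStalk (genericPoint Z) := by
    rw [← Category.assoc, Scheme.Hom.toImage_imageι, AffineSpace.homOfVector_over]
  have : IsDominant ν := by
    refine ⟨fun z => ?_⟩
    have h1 : genericPoint Z ∈ Set.range ν := by
      refine ⟨g.toImage (IsLocalRing.closedPoint K), ?_⟩
      rw [← Scheme.Hom.comp_apply, hgν, Scheme.fromSpecStalk_closedPoint]
    have h2 : z ∈ closure {genericPoint Z} := by
      rw [(genericPoint_spec Z).def]; trivial
    exact closure_mono (Set.singleton_subset_iff.mpr h1) h2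
  have : Surjective ν := ⟨Set.range_eq_univ.mp
    (by rw [← ν.isClosedMap.isClosed_range.closure_eq, ν.denseRange.closure_range])⟩
  -- `Z'` is affine
  let C' (z : σ) : Γ(Z', ⊤) := g.imageι.appTop.hom (AffineSpace.coord Z (Sum.inl z))
  let R' (z : σ) : Γ(Z', ⊤) := g.imageι.appTop.hom (AffineSpace.coord Z (Sum.inr z))
  have hpull : ∀ i, h.appTop.hom (g.imageι.appTop.hom (AffineSpace.coord Z i)) =
      (Scheme.ΓSpecIso MR).inv.hom (ρ (v i)) := by
    intro i
    rw [← CommRingCat.comp_apply, ← Scheme.Hom.comp_appTop, hh,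
      AffineSpace.homOfVector_appTop_coord]
  have hbasic : ∀ z : σ, Z'.basicOpen (C' z) ≤ ν ⁻¹ᵁ (U z.1).1 := by
    intro z n hn
    obtain ⟨P, rfl⟩ := h.surjective n
    have hP : P ∈ h ⁻¹ᵁ Z'.basicOpen (C' z) := hn
    rw [Scheme.preimage_basicOpen_top, hpull, basicOpen_eq_of_affine] at hP
    show ν (h P) ∈ (U z.1).1
    rw [← Scheme.Hom.comp_apply, hν]
    refine haU z.1 ?_
    show Spec.map ιBM P ∈ X.isoSpec.inv ⁻¹ᵁ X.basicOpen (a z.1)
    rw [← IsAffineOpen.fromSpec_top, (isAffineOpen_top X).fromSpec_preimage_basicOpen]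
    intro ha'
    apply hP
    obtain ⟨w, hw, hw'⟩ := exists_eq_mul_of_mem M.toSubring (M.algebraMap_mem (a z.1))
      (hcoeff (a z.1))
    have : ρ (v (Sum.inl z)) = ιBM.hom (a z.1) * (⟨w, hw⟩ : M.toSubring) := Subtype.ext hw'
    rw [this]
    exact Ideal.mul_mem_right _ _ ha'
  have : IsAffine Z' := by
    refine isAffine_of_isAffineOpen_basicOpen (Set.range C') ?_ ?_
    · have hu : IsUnit (∑ z, R' z * C' z) := by
        suffices h1 : Z'.basicOpen (∑ z, R' z * C' z) = ⊤ from
          RingedSpace.isUnit_of_isUnit_germ Z'.toRingedSpace ⊤ _ fun x hx =>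
            (Z'.mem_basicOpen _ x hx).mp (h1.ge trivial)
        refine eq_top_iff.mpr fun x _ => ?_
        obtain ⟨P, rfl⟩ := h.surjective x
        show P ∈ h ⁻¹ᵁ Z'.basicOpen _
        rw [Scheme.preimage_basicOpen_top]
        have : h.appTop.hom (∑ z, R' z * C' z) = 1 := by
          rw [map_sum]
          simp only [map_mul, R', C', hpull, v, Sum.elim_inl, Sum.elim_inr]
          simp only [← map_mul]
          rw [← map_sum, ← map_sum, hr, map_one, map_one]
        rw [this]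
        simp
      exact Ideal.eq_top_of_isUnit_mem _ (Submodule.sum_mem _ fun z _ =>
        Ideal.mul_mem_left _ _ (Ideal.subset_span ⟨z, rfl⟩)) hu
    · rintro _ ⟨z, rfl⟩
      have := ((U z.1).2.preimage ν).basicOpen (res le_top (C' z))
      rwa [Z'.basicOpen_res, inf_eq_right.mpr (hbasic z)] at this
  -- the conductor
  obtain ⟨τ, hτ⟩ := isCompact_univ.elim_finite_subcover
    (fun V : {V : Z.affineOpens // (V.1 : Set Z).Nonempty} => (V.1.1 : Set Z))
    (fun V => V.1.1.isOpen) (fun z _ => by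
      obtain ⟨_, ⟨V, hV, rfl⟩, hz, -⟩ :=
        Z.isBasis_affineOpens.exists_subset_of_mem_open (Set.mem_univ z) isOpen_univ
      exact Set.mem_iUnion.mpr ⟨⟨⟨V, hV⟩, ⟨z, hz⟩⟩, hz⟩)
  have hden : ∀ V : τ, ∃ d : Γ(Z, V.1.1.1), d ≠ 0 ∧
      ∀ b, ∃ e, (ν.app V.1.1.1).hom e = (ν.app V.1.1.1).hom d * b := by
    intro V
    let W := V.1.1.1
    have hgW : genericPoint Z ∈ W := genericPoint_mem V.1.2
    have : Nonempty W := ⟨⟨_, hgW⟩⟩
    have := functionField_isFractionRing_of_isAffineOpen Z W V.1.1.2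
    let A' : (𝔸(σ ⊕ σ; Z)).affineOpens :=
      ⟨(𝔸(σ ⊕ σ; Z) ↘ Z) ⁻¹ᵁ W, V.1.1.2.preimage _⟩
    have htop : g.toImage ⁻¹ᵁ (ν ⁻¹ᵁ W) = ⊤ := by
      rw [← Scheme.Hom.comp_preimage, hgν]
      refine eq_top_iff.mpr fun x _ => ?_
      show Z.fromSpecStalk _ x ∈ W
      rw [Subsingleton.elim (α := PrimeSpectrum K) x (IsLocalRing.closedPoint K)]
      rw [Scheme.fromSpecStalk_closedPoint]
      exact hgW
    let θ : Γ(Z', ν ⁻¹ᵁ W) →+* K :=
      ((g.toImage.appLE (ν ⁻¹ᵁ W) ⊤ htop.ge) ≫ (Scheme.ΓSpecIso K).hom).hom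
    have hθinj : Function.Injective θ := by
      have h1 := g.toImage_app_injective (U := A')
      have h2 : Function.Injective ((Spec K).presheaf.map (homOfLE htop.ge).op) := by
        have : IsIso (homOfLE htop.ge) := ⟨homOfLE htop.le, rfl, rfl⟩
        exact (ConcreteCategory.bijective_of_isIso _).1
      exact (ConcreteCategory.bijective_of_isIso (Scheme.ΓSpecIso K).hom).1.comp (h2.comp h1)
    have hθ : ∀ x : Γ(Z, W), θ ((ν.app W).hom x) = algebraMap Γ(Z, W) K x := by
      intro x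
      have h1 : ν.app W ≫ g.toImage.appLE (ν ⁻¹ᵁ W) ⊤ htop.ge ≫ (Scheme.ΓSpecIso K).hom =
          Z.presheaf.germ W _ hgW := by
        rw [Scheme.Hom.app_eq_appLE, Scheme.Hom.appLE_comp_appLE_assoc]
        suffices h0 : ∀ (k : Spec K ⟶ Z) (_ : k = Z.fromSpecStalk (genericPoint Z))
            (e : ⊤ ≤ k ⁻¹ᵁ W), k.appLE W ⊤ e ≫ (Scheme.ΓSpecIso K).hom =
              Z.presheaf.germ W _ hgW from h0 _ hgν _
        rintro k rfl e
        rw [Scheme.Hom.appLE, Scheme.fromSpecStalk_app hgW]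
        simp only [Category.assoc]
        rw [← Functor.map_comp_assoc]
        have hid : ((homOfLE (le_top (a := Z.fromSpecStalk (genericPoint Z) ⁻¹ᵁ W))).op ≫
            (homOfLE e).op) = 𝟙 (Opposite.op (⊤ : (Spec K).Opens)) := rfl
        rw [hid, CategoryTheory.Functor.map_id, Category.id_comp, Iso.inv_hom_id, Category.comp_id]
      exact congr($(h1).hom x)
    let : Algebra Γ(Z, W) Γ(Z', ν ⁻¹ᵁ W) := (ν.app W).hom.toAlgebra
    have : Module.Finite Γ(Z, W) Γ(Z', ν ⁻¹ᵁ W) := ν.finite_app W V.1.1.2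
    obtain ⟨S, hS⟩ := Module.Finite.fg_top (R := Γ(Z, W)) (M := Γ(Z', ν ⁻¹ᵁ W))
    obtain ⟨⟨d, hd⟩, hd'⟩ := IsLocalization.exist_integer_multiples_of_finset
      (nonZeroDivisors Γ(Z, W)) (S.image θ)
    refine ⟨d, nonZeroDivisors.ne_zero hd, fun b => ?_⟩
    have hb : b ∈ Submodule.span Γ(Z, W) (S : Set Γ(Z', ν ⁻¹ᵁ W)) := by rw [hS]; trivial
    induction hb using Submodule.span_induction with
    | mem x hx =>
      obtain ⟨e, he⟩ := hd' (θ x) (Finset.mem_image_of_mem θ hx)
      refine ⟨e, hθinj ?_⟩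
      rw [map_mul, hθ, hθ, he]
      exact (Algebra.smul_def d (θ x))
    | zero => exact ⟨0, by simp⟩
    | add x y _ _ hx hy =>
      obtain ⟨p, hp⟩ := hx
      obtain ⟨q, hq⟩ := hy
      exact ⟨p + q, by rw [map_add, hp, hq, mul_add]⟩
    | smul r x _ hx =>
      obtain ⟨p, hp⟩ := hx
      exact ⟨r * p, by rw [map_mul, hp, Algebra.smul_def]; exact mul_left_comm _ _ _⟩
  choose d hd0 hd using hden
  let C₀ : Z.IdealSheafData := ⨅ V : τ, extendIdeal V.1.1 (Ideal.span {d V})
  have hC₀ : ∀ V : τ, C₀.ideal V.1.1 ≤ Ideal.span {d V} := fun V =>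
    ((iInf_le (fun V : τ => extendIdeal V.1.1 (Ideal.span {d V})) V) _).trans
      (extendIdeal_ideal_self _ _).le
  have hC : IsConductor ν ((C₀.comap ν).map ν) (fun V : τ => V.1.1) :=
    isConductor_saturation ν C₀ _ fun V x hx b => by
      obtain ⟨y, rfl⟩ := Ideal.mem_span_singleton.mp (hC₀ V hx)
      obtain ⟨e, he⟩ := hd V ((ν.app V.1.1.1).hom y * b)
      exact ⟨e, by rw [he, map_mul]; ring⟩
  have hC₀ne : C₀ ≠ ⊥ := by
    let W₀ : Z.Opens := ⟨⋂ V : τ, (V.1.1.1 : Set Z), isOpen_iInter_of_finite fun V => V.1.1.1.isOpen⟩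
    have hg0 : genericPoint Z ∈ W₀ := Set.mem_iInter.mpr fun V => genericPoint_mem V.1.2
    obtain ⟨_, ⟨W₁, hW₁, rfl⟩, hgW₁, hW₁W⟩ :=
      Z.isBasis_affineOpens.exists_subset_of_mem_open hg0 W₀.isOpen
    have : Nonempty W₁ := ⟨⟨_, hgW₁⟩⟩
    have hle : ∀ V : τ, W₁ ≤ V.1.1.1 := fun V x hx => Set.mem_iInter.mp (hW₁W hx) V
    have hprodmem : (∏ V : τ, res (hle V) (d V)) ∈ C₀.ideal ⟨W₁, hW₁⟩ := by
      simp only [C₀, Scheme.IdealSheafData.ideal_iInf, iInf_apply, Submodule.mem_iInf]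
      intro V
      refine Ideal.mem_of_dvd _ (Finset.dvd_prod_of_mem _ (Finset.mem_univ V)) ?_
      refine (extendIdeal V.1.1 _).ideal_le_comap_ideal (U := ⟨W₁, hW₁⟩) (V := V.1.1) (hle V) ?_
      rw [extendIdeal_ideal_self]
      exact Ideal.subset_span rfl
    intro h0
    rw [h0, Scheme.IdealSheafData.ideal_bot, Pi.bot_apply, Submodule.mem_bot,
      Finset.prod_eq_zero_iff] at hprodmem
    obtain ⟨V, -, hV⟩ := hprodmem
    apply hd0 V
    apply map_injective_of_isIntegral (X := Z) (homOfLE (hle V))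
    show res (hle V) (d V) = res (hle V) 0
    rw [hV, map_zero]
  have hCne : (C₀.comap ν).map ν ≠ ⊥ := fun h0 =>
    hC₀ne (le_bot_iff.mp (h0 ▸ Scheme.IdealSheafData.le_map_comap C₀ ν))
  have := hprop _ hCne
  refine hC.isAffine ?_ (app_injective_of_isDominant ν)
  refine eq_top_iff.mpr fun z _ => ?_
  obtain ⟨V, hV, hz⟩ := Set.mem_iUnion₂.mp (hτ (Set.mem_univ z))
  exact Opens.mem_iSup.mpr ⟨⟨V, hV⟩, hz⟩

end ChevLib
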