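import Groth.Agent.ChevLib.SqZero
import Groth.Agent.ChevLib.Integral
import Mathlib.AlgebraicGeometry.AffineTransitionLimit
import Mathlib.Order.Zorn

/-!
# Chevalley's theorem: an image of an affine scheme under a universally closed morphism is affine
-/

universe u

open CategoryTheory Limits AlgebraicGeometry TopologicalSpace

namespace ChevLib

variable {S X : Scheme.{u}}

lemma isSeparated_of_surjective_universallyClosed (f : X ⟶ S) [X.IsSeparated] [Surjective f]
    [UniversallyClosed f] : S.IsSeparated := by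
  refine ⟨⟨IsClosedImmersion.of_isPreimmersion _ ?_⟩⟩
  let m := pullback.map (terminal.from X) (terminal.from X) (terminal.from S) (terminal.from S)
    f f (𝟙 _) (Subsingleton.elim _ _) (Subsingleton.elim _ _)
  have hd : pullback.diagonal (terminal.from X) ≫ m = f ≫ pullback.diagonal (terminal.from S) := by
    apply pullback.hom_ext
    · simp only [m, pullback.map, Category.assoc, pullback.lift_fst, pullback.diagonal_fst,
        Category.comp_id, pullback.diagonal_fst_assoc]
    · simp only [m, pullback.map, Category.assoc, pullback.lift_snd, pullback.diagonal_snd,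
        Category.comp_id, pullback.diagonal_snd_assoc]
  have : UniversallyClosed m := by
    exact MorphismProperty.pullbackMap (P := @UniversallyClosed) ‹_› ‹_›
      (Subsingleton.elim _ _) (Subsingleton.elim _ _)
  have hrange : Set.range (pullback.diagonal (terminal.from S)) =
      m '' Set.range (pullback.diagonal (terminal.from X)) := by
    rw [← Set.range_comp]
    have : (m ∘ pullback.diagonal (terminal.from X) : X → _) =
        pullback.diagonal (terminal.from S) ∘ f := by
      ext x
      simp only [Function.comp_apply, ← Scheme.Hom.comp_apply, hd]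
    rw [this, f.surjective.range_comp]
  rw [hrange]
  exact m.isClosedMap _ (pullback.diagonal (terminal.from X)).isClosedEmbedding.isClosed_range

/-- The chain of closed subschemes, as a diagram. -/
noncomputable def chainFunctor (c : Set S.IdealSheafData) : (↥c)ᵒᵖ ⥤ Scheme.{u} :=
  (Monotone.functor (f := ((↑) : c → S.IdealSheafData)) fun _ _ h => h).op ⋙
    Scheme.IdealSheafData.subschemeFunctor S ⋙ Over.forget S

/-- The subscheme of the supremum, as a cone. -/
noncomputable def chainCone (c : Set S.IdealSheafData) : Cone (chainFunctor c) where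
  pt := (sSup c).subscheme
  π :=
    { app := fun I => Scheme.IdealSheafData.inclusion (le_sSup I.unop.2)
      naturality := fun I J h => by
        simp [chainFunctor, Scheme.IdealSheafData.subschemeFunctor] }

/-- The subscheme of the supremum is the limit of the subschemes. -/
noncomputable def isLimitChainCone (c : Set S.IdealSheafData) (hc : c.Nonempty)
    (hdir : DirectedOn (· ≤ ·) c) : IsLimit (chainCone c) := by
  let i₀ : (↥c)ᵒᵖ := Opposite.op ⟨hc.choose, hc.choose_spec⟩
  have hw : ∀ (s : Cone (chainFunctor c)) (I : (↥c)ᵒᵖ),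
      s.π.app I ≫ I.unop.1.subschemeι = s.π.app i₀ ≫ i₀.unop.1.subschemeι := by
    intro s I
    obtain ⟨K, hK, hIK, h0K⟩ := hdir _ I.unop.2 _ i₀.unop.2
    have h1 := s.w (homOfLE (X := ↥c) (x := I.unop) (y := ⟨K, hK⟩) hIK).op
    have h2 := s.w (homOfLE (X := ↥c) (x := i₀.unop) (y := ⟨K, hK⟩) h0K).op
    rw [← h1, ← h2]
    simp [chainFunctor, Scheme.IdealSheafData.subschemeFunctor]
  have hle : ∀ s : Cone (chainFunctor c),
      (sSup c).subschemeι.ker ≤ (s.π.app i₀ ≫ i₀.unop.1.subschemeι).ker := by
    intro s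
    rw [Scheme.IdealSheafData.ker_subschemeι]
    refine sSup_le fun I hI => ?_
    rw [← hw s (Opposite.op ⟨I, hI⟩)]
    exact le_trans (Scheme.IdealSheafData.ker_subschemeι I).ge (Scheme.Hom.le_ker_comp _ _)
  let liftAux : ∀ s : Cone (chainFunctor c), s.pt ⟶ (sSup c).subscheme :=
    fun s => IsClosedImmersion.lift (sSup c).subschemeι _ (hle s)
  have hlift : ∀ s, liftAux s ≫ (sSup c).subschemeι = s.π.app i₀ ≫ i₀.unop.1.subschemeι :=
    fun s => IsClosedImmersion.lift_fac _ _ _
  exact
    { lift := liftAux
      fac := fun s I => by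
        have : Mono (I.unop.1.subschemeι) := inferInstance
        refine (cancel_mono I.unop.1.subschemeι).mp ?_
        refine Eq.trans ?_ ((hlift s).trans (hw s I).symm)
        show (liftAux s ≫ Scheme.IdealSheafData.inclusion (le_sSup I.unop.2)) ≫ _ = _
        erw [Category.assoc, Scheme.IdealSheafData.inclusion_subschemeι]
      uniq := fun s m hm => by
        refine (cancel_mono (sSup c).subschemeι).mp ?_
        refine Eq.trans ?_ (hlift s).symm
        rw [← hm i₀]
        show _ = (m ≫ Scheme.IdealSheafData.inclusion (le_sSup i₀.unop.2)) ≫ _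
        erw [Category.assoc, Scheme.IdealSheafData.inclusion_subschemeι]
        rfl }

lemma not_isAffine_sSup [CompactSpace S] [QuasiSeparatedSpace S] (c : Set S.IdealSheafData)
    (hc : c.Nonempty) (hdir : DirectedOn (· ≤ ·) c) (h : ∀ I ∈ c, ¬ IsAffine I.subscheme) :
    ¬ IsAffine (sSup c).subscheme := by
  intro hA
  have : Nonempty ↥c := hc.to_subtype
  have : IsDirectedOrder ↥c := ⟨fun a b => by
    obtain ⟨K, hK, h1, h2⟩ := hdir _ a.2 _ b.2
    exact ⟨⟨K, hK⟩, h1, h2⟩⟩
  have : ∀ {I J : (↥c)ᵒᵖ} (φ : I ⟶ J), IsAffineHom ((chainFunctor c).map φ) := fun {I J} φ =>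
    (inferInstance : IsAffineHom
      (Scheme.IdealSheafData.inclusion (show J.unop.1 ≤ I.unop.1 from φ.unop.le)))
  have hcp : ∀ J : S.IdealSheafData, CompactSpace J.subscheme := fun J =>
    QuasiCompact.compactSpace_of_compactSpace J.subschemeι
  have : ∀ I, CompactSpace ((chainFunctor c).obj I) := fun I => hcp I.unop.1
  have hqs : ∀ J : S.IdealSheafData, QuasiSeparatedSpace J.subscheme := fun J =>
    quasiSeparatedSpace_of_quasiSeparated J.subschemeι
  have : ∀ I, QuasiSeparatedSpace ((chainFunctor c).obj I) := fun I => hqs I.unop.1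
  have : IsAffine (chainCone c).pt := hA
  obtain ⟨I, hI⟩ := Scheme.exists_isAffine_of_isLimit _ _ (isLimitChainCone c hc hdir)
  exact h _ I.unop.2 hI

/-- A nonreduced scheme has a nonzero square zero ideal sheaf. -/
lemma exists_sq_eq_bot {Z : Scheme.{u}} [Z.IsSeparated] [CompactSpace Z] (h : ¬ IsReduced Z) :
    ∃ J : Z.IdealSheafData, J ≠ ⊥ ∧ J * J = ⊥ ∧ J ≤ Z.nilradical := by
  classical
  obtain ⟨s, hs⟩ := isCompact_univ.elim_finite_subcover (fun U : Z.affineOpens => (U.1 : Set Z))
    (fun U => U.1.isOpen) (fun z _ => by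
      obtain ⟨_, ⟨V, hV, rfl⟩, hz, -⟩ :=
        Z.isBasis_affineOpens.exists_subset_of_mem_open (Set.mem_univ z) isOpen_univ
      exact Set.mem_iUnion.mpr ⟨⟨V, hV⟩, hz⟩)
  have key : ∀ t : Finset Z.affineOpens, ∃ J : Z.IdealSheafData, J ≠ ⊥ ∧ J ≤ Z.nilradical ∧
      ∀ U ∈ t, ∀ x ∈ J.ideal U, ∀ y ∈ J.ideal U, x * y = 0 := by
    intro t
    induction t using Finset.induction_on with
    | empty =>
      refine ⟨Z.nilradical, fun hbot => h ?_, le_rfl, by simp⟩
      refine @IsReduced.of_openCover Z
        (Z.openCoverOfIsOpenCover _ (iSup_affineOpens_eq_top Z)) fun (U : Z.affineOpens) => ?_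
      show IsReduced (U.1 : Scheme)
      have : IsAffine (U.1 : Scheme) := U.2
      have : _root_.IsReduced Γ(Z, U.1) := by
        refine nilradical_eq_bot_iff.mp ?_
        have := congr($(hbot).ideal U)
        simpa [Scheme.nilradical, _root_.nilradical] using this
      have : _root_.IsReduced Γ((U.1 : Scheme), ⊤) :=
        isReduced_of_injective U.1.topIso.hom.hom (ConcreteCategory.bijective_of_isIso _).1
      exact isReduced_of_isAffine_isReduced _
    | insert U t _ ih =>
      obtain ⟨J, hJ, hJn, hJt⟩ := ih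
      by_cases hU : ∀ x ∈ J.ideal U, x = 0
      · refine ⟨J, hJ, hJn, fun V hV => ?_⟩
        rcases Finset.mem_insert.mp hV with rfl | hV
        · intro x hx y _; rw [hU x hx, zero_mul]
        · exact hJt V hV
      · obtain ⟨x, hxJ, hx0⟩ : ∃ x ∈ J.ideal U, x ≠ 0 := by simpa using hU
        have hxn : IsNilpotent x := by
          have := hJn U hxJ
          simpa [Scheme.nilradical, Ideal.mem_radical_iff, IsNilpotent] using this
        obtain ⟨y, hy0, hy2, hyJ⟩ : ∃ y, y ≠ 0 ∧ y * y = 0 ∧ y ∈ J.ideal U := by
          have : Nontrivial Γ(Z, U.1) := ⟨⟨x, 0, hx0⟩⟩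
          let n := nilpotencyClass x
          have hn : 0 < n := pos_nilpotencyClass_iff.mpr hxn
          have hn1 : n ≠ 1 := fun h1 => hx0 (nilpotencyClass_eq_one.mp h1)
          refine ⟨x ^ (n - 1), pow_pred_nilpotencyClass hxn, ?_, ?_⟩
          · rw [← pow_add]
            exact pow_eq_zero_of_le (by omega) (pow_nilpotencyClass hxn)
          · exact Ideal.pow_mem_of_mem _ hxJ _ (by omega)
        let J' := J ⊓ extendIdeal U (Ideal.span {y})
        have hJ'U : J'.ideal U ≤ Ideal.span {y} :=
          (Scheme.IdealSheafData.ideal_inf.le U).trans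
            (inf_le_right.trans (extendIdeal_ideal_self _ _).le)
        refine ⟨J', ?_, inf_le_left.trans hJn, fun V hV => ?_⟩
        · intro hbot
          apply hy0
          have : y ∈ J'.ideal U := by
            simp only [J', Scheme.IdealSheafData.ideal_inf, Pi.inf_apply, Ideal.mem_inf]
            refine ⟨hyJ, ?_⟩
            rw [extendIdeal_ideal_self]
            exact Ideal.subset_span rfl
          simpa [hbot] using this
        · rcases Finset.mem_insert.mp hV with rfl | hV
          · intro a ha b hb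
            obtain ⟨a', rfl⟩ := Ideal.mem_span_singleton.mp (hJ'U ha)
            obtain ⟨b', rfl⟩ := Ideal.mem_span_singleton.mp (hJ'U hb)
            rw [mul_mul_mul_comm, hy2, zero_mul]
          · intro a ha b hb
            exact hJt V hV a ha.1 b hb.1
  obtain ⟨J, hJ, hJn, hJs⟩ := key s
  refine ⟨J, hJ, ?_, hJn⟩
  refine Scheme.IdealSheafData.ext_of_iSup_eq_top (fun U : s => U.1) ?_ fun U => ?_
  · refine eq_top_iff.mpr fun z _ => ?_
    obtain ⟨U, hU, hz⟩ := Set.mem_iUnion₂.mp (hs (Set.mem_univ z))
    exact Opens.mem_iSup.mpr ⟨⟨U, hU⟩, hz⟩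
  · show J.ideal U.1 * J.ideal U.1 = ⊥
    refine eq_bot_iff.mpr (Ideal.mul_le.mpr fun a ha b hb => ?_)
    exact Submodule.mem_bot (R := Γ(Z, U.1.1)) |>.mpr (hJs U.1 U.2 a ha b hb)

/-- Reduction of the source to an integral scheme. -/
lemma exists_integral_source {Z : Scheme.{u}} (f : X ⟶ Z) [IsAffine X] [IsIntegral Z]
    [Surjective f] [IsIntegralHom f] :
    ∃ (X' : Scheme.{u}) (f' : X' ⟶ Z), IsAffine X' ∧ IsIntegral X' ∧ Surjective f' ∧
      IsIntegralHom f' := by
  obtain ⟨x, hx⟩ := f.surjective (genericPoint Z)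
  let p : PrimeSpectrum Γ(X, ⊤) := X.isoSpec.hom x
  let q : Γ(X, ⊤) ⟶ CommRingCat.of (Γ(X, ⊤) ⧸ p.asIdeal) :=
    CommRingCat.ofHom (Ideal.Quotient.mk p.asIdeal)
  have : IsClosedImmersion (Spec.map q) :=
    IsClosedImmersion.spec_of_surjective _ Ideal.Quotient.mk_surjective
  let f' := Spec.map q ≫ X.isoSpec.inv ≫ f
  refine ⟨_, f', inferInstance, inferInstance, ⟨fun z => ?_⟩, inferInstance⟩
  have h0 : genericPoint Z ∈ Set.range f' := by
    obtain ⟨w, hw⟩ : X.isoSpec.hom x ∈ Set.range (Spec.map q) := by
      show p ∈ Set.range (PrimeSpectrum.comap (Ideal.Quotient.mk p.asIdeal))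
      rw [range_comap_of_surjective _ _ Ideal.Quotient.mk_surjective,
        PrimeSpectrum.mem_zeroLocus, Ideal.mk_ker]
    refine ⟨w, ?_⟩
    simp only [f', Scheme.Hom.comp_apply, hw]
    show f (X.isoSpec.inv (X.isoSpec.hom x)) = _
    rw [show X.isoSpec.inv (X.isoSpec.hom x) = x by
      rw [← Scheme.Hom.comp_apply, Iso.hom_inv_id]; rfl]
    exact hx
  have h1 : IsClosed (Set.range f') := f'.isClosedMap.isClosed_range
  have h2 : closure {genericPoint Z} ⊆ Set.range f' :=
    h1.closure_subset_iff.mpr (Set.singleton_subset_iff.mpr h0)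
  exact h2 (by rw [(genericPoint_spec Z).def]; trivial)

/-- If all proper closed subschemes are affine, so is the scheme. -/
theorem isAffine_of_forall_proper {Z : Scheme.{u}} [Z.IsSeparated] (f : X ⟶ Z) [IsAffine X]
    [Surjective f] [IsIntegralHom f]
    (hprop : ∀ I : Z.IdealSheafData, I ≠ ⊥ → IsAffine I.subscheme) : IsAffine Z := by
  have : CompactSpace Z := f.surjective.compactSpace f.continuous
  cases isEmpty_or_nonempty Z
  · infer_instance
  by_cases hred : IsReduced Z
  · by_cases hirr : IrreducibleSpace Z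
    · have : IsIntegral Z := isIntegral_of_irreducibleSpace_of_isReduced Z
      obtain ⟨X', f', _, _, _, _⟩ := exists_integral_source f
      exact isAffine_of_isIntegral_isIntegral Z X' f' hprop
    · exact isAffine_of_not_irreducible Z hprop hirr
  · obtain ⟨J, hJ, hJ2, hJn⟩ := exists_sq_eq_bot hred
    have := hprop J hJ
    have : Surjective J.subschemeι := ⟨fun z => by
      have h1 : z ∈ Set.range J.subschemeι := by
        rw [Scheme.IdealSheafData.range_subschemeι]
        have := Scheme.IdealSheafData.support_antitone hJn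
        rw [Scheme.support_nilradical] at this
        exact this trivial
      exact h1⟩
    exact isAffine_of_sq_eq_bot J.subschemeι (by rw [Scheme.IdealSheafData.ker_subschemeι, hJ2])

/-- **Chevalley's theorem.** If `f : X ⟶ S` is surjective and universally closed with `X` affine,
then `S` is affine. -/
theorem isAffine_of_surjective_universallyClosed (f : X ⟶ S) [IsAffine X] [Surjective f]
    [UniversallyClosed f] : IsAffine S := by
  have : S.IsSeparated := isSeparated_of_surjective_universallyClosed f
  have : CompactSpace S := f.surjective.compactSpace f.continuous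
  by_contra hS
  let P : Set S.IdealSheafData := {I | ¬ IsAffine I.subscheme}
  have hbot : (⊥ : S.IdealSheafData) ∈ P := fun h => hS
    (.of_isIso (inv (Scheme.IdealSheafData.subschemeι ⊥ : _ ⟶ S)))
  obtain ⟨I, -, hI⟩ := zorn_le_nonempty₀ P (fun c hcP hc y hy =>
    ⟨sSup c, not_isAffine_sSup c ⟨y, hy⟩ hc.directedOn hcP, fun z hz => le_sSup hz⟩) ⊥ hbot
  let Z := I.subscheme
  let fZ : pullback f I.subschemeι ⟶ Z := pullback.snd f I.subschemeι
  have : Z.IsSeparated := by
    rw [Scheme.isSeparated_iff]
    have : terminal.from Z = I.subschemeι ≫ terminal.from S := Subsingleton.elim _ _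
    rw [this]; infer_instance
  have : IsAffine (pullback f I.subschemeι) := isAffine_of_isAffineHom (pullback.fst f I.subschemeι)
  have : IsAffineHom fZ := isAffineHom_of_isSeparated fZ
  have : IsIntegralHom fZ := by
    rw [IsIntegralHom.iff_universallyClosed_and_isAffineHom]; exact ⟨inferInstance, inferInstance⟩
  refine hI.1 (isAffine_of_forall_proper fZ fun J hJ => ?_)
  by_contra hJA
  let I' := (J.subschemeι ≫ I.subschemeι).ker
  have hiso : IsAffine I'.subscheme → IsAffine J.subscheme := fun _ =>
    .of_isIso (J.subschemeι ≫ I.subschemeι).toImage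
  have hle : I ≤ I' := by
    refine le_trans ?_ (Scheme.Hom.le_ker_comp _ _)
    rw [Scheme.IdealSheafData.ker_subschemeι]
  have hI' : I' ≤ I := hI.2 (fun h => hJA (hiso h)) hle
  apply hJ
  rw [← Scheme.isIso_subschemeι_iff_eq_bot]
  exact IsClosedImmersion.isIso_of_ker_eq (J.subschemeι ≫ I.subschemeι) I.subschemeι J.subschemeι
    rfl (by rw [Scheme.IdealSheafData.ker_subschemeι]; exact le_antisymm hI' hle)

end ChevLib
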