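import Mathlib.AlgebraicGeometry.IdealSheaf.Functorial
import Mathlib.AlgebraicGeometry.Morphisms.Affine
import Mathlib.AlgebraicGeometry.Morphisms.Separated

/-!
# Ideal sheaves: extension from an affine open, and pullback along affine morphisms
-/

universe u

open CategoryTheory Limits AlgebraicGeometry TopologicalSpace

namespace ChevLib

variable {X Y : Scheme.{u}}

/-- Restriction of sections as a ring homomorphism. -/
abbrev res {U V : X.Opens} (h : V ≤ U) : Γ(X, U) →+* Γ(X, V) :=
  (X.presheaf.map (homOfLE h).op).hom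

@[simp] lemma res_res {U V W : X.Opens} (h : V ≤ U) (h' : W ≤ V) (x : Γ(X, U)) :
    res h' (res h x) = res (h'.trans h) x := by
  show (X.presheaf.map (homOfLE h).op ≫ X.presheaf.map (homOfLE h').op).hom x = _
  rw [← Functor.map_comp]
  rfl

lemma res_self {U : X.Opens} (h : U ≤ U) (x : Γ(X, U)) : res h x = x := by
  show (X.presheaf.map (𝟙 _)).hom x = x
  simp

lemma app_res (f : X ⟶ Y) {U V : Y.Opens} (h : V ≤ U) (x : Γ(Y, U)) :
    (f.app V).hom (res h x) = res (f.preimage_mono h) ((f.app U).hom x) :=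
  congr($(f.naturality (homOfLE h).op).hom x)

/-- The largest ideal sheaf whose restriction to the affine open `U` lies in `I`. -/
noncomputable def extendIdeal (U : X.affineOpens) (I : Ideal Γ(X, U)) : X.IdealSheafData :=
  (Spec.map (CommRingCat.ofHom (Ideal.Quotient.mk I)) ≫ U.2.fromSpec).ker

lemma extendIdeal_ideal_self [QuasiSeparatedSpace X] (U : X.affineOpens) (I : Ideal Γ(X, U)) :
    (extendIdeal U I).ideal U = I := by
  have : QuasiCompact U.2.fromSpec := by
    have : CompactSpace ↥(Spec Γ(X, U.1)) := inferInstance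
    infer_instance
  rw [extendIdeal, Scheme.Hom.ker_apply]
  set q := CommRingCat.ofHom (Ideal.Quotient.mk I)
  set g := Spec.map q ≫ U.2.fromSpec
  have hg : g ⁻¹ᵁ U = ⊤ := by
    rw [Scheme.Hom.comp_preimage, U.2.fromSpec_preimage_self, Scheme.Hom.preimage_top]
  have key : g.appLE U ⊤ hg.ge = q ≫ (Scheme.ΓSpecIso _).inv := by
    rw [Scheme.ΓSpecIso_inv_naturality]
    simp [g, Scheme.Hom.appLE, Scheme.Hom.comp_app, U.2.fromSpec_app_self]
    rfl
  have h1 : RingHom.ker (g.app U).hom = RingHom.ker (g.appLE U ⊤ hg.ge).hom := by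
    rw [Scheme.Hom.appLE, CommRingCat.hom_comp]
    refine (RingHom.ker_comp_of_injective _ ?_).symm
    exact (ConcreteCategory.bijective_of_isIso
      ((Spec _).presheaf.map (eqToHom hg.symm).op)).1
  rw [h1, key, CommRingCat.hom_comp, RingHom.ker_comp_of_injective _
    (ConcreteCategory.bijective_of_isIso _).1]
  exact Ideal.mk_ker

lemma ideal_comap_top_of_isAffine [IsAffine Y] (I : Y.IdealSheafData) (f : X ⟶ Y) [IsAffine X] :
    (I.comap f).ideal ⟨⊤, isAffineOpen_top X⟩ =
      (I.ideal ⟨⊤, isAffineOpen_top Y⟩).map f.appTop.hom := by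
  apply le_antisymm
  · let J : X.IdealSheafData :=
      .ofIdealTop ((I.ideal ⟨⊤, isAffineOpen_top Y⟩).map f.appTop.hom)
    have h : I.comap f ≤ J := by
      rw [← Scheme.IdealSheafData.le_map_iff_comap_le]
      apply Scheme.IdealSheafData.le_of_isAffine
      rw [Scheme.IdealSheafData.ideal_map_of_isAffineHom]
      rw [← Ideal.map_le_iff_le_comap]
      simp [J]
      rfl
    exact (h _).trans (by simp [J])
  · rw [Ideal.map_le_iff_le_comap]
    have h := (Scheme.IdealSheafData.le_map_comap I f) ⟨⊤, isAffineOpen_top Y⟩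
    rw [Scheme.IdealSheafData.ideal_map_of_isAffineHom] at h
    exact h

lemma ideal_comap_openImmersion_top {W' : Scheme.{u}} (I : X.IdealSheafData) (j : W' ⟶ X)
    [IsOpenImmersion j] [IsAffine W'] (W : X.affineOpens) (h : j ''ᵁ ⊤ = W.1) :
    (I.comap j).ideal ⟨⊤, isAffineOpen_top W'⟩ =
      (I.ideal W).map (j.appLE W.1 ⊤ (by rw [← h, j.preimage_image_eq])).hom := by
  obtain rfl : W = ⟨j ''ᵁ ⊤, (isAffineOpen_top W').image_of_isOpenImmersion j⟩ := Subtype.ext h.symm
  rw [Scheme.IdealSheafData.ideal_comap_of_isOpenImmersion]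
  have : j.appLE (j ''ᵁ ⊤) ⊤ (by rw [j.preimage_image_eq]) = (j.appIso ⊤).hom := by
    rw [Scheme.Hom.appIso_hom']
  rw [this]
  exact Ideal.comap_symm (j.appIso ⊤).commRingCatIsoToRingEquiv

lemma ideal_comap_of_isAffineHom (I : Y.IdealSheafData) (f : X ⟶ Y) [IsAffineHom f]
    (U : Y.affineOpens) :
    (I.comap f).ideal ⟨f ⁻¹ᵁ U.1, U.2.preimage f⟩ = (I.ideal U).map (f.app U.1).hom := by
  let W : X.affineOpens := ⟨f ⁻¹ᵁ U.1, U.2.preimage f⟩
  have : IsAffine (W.1 : Scheme) := W.2
  have : IsAffine (U.1 : Scheme) := U.2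
  let e := W.1.ι.appLE W.1 ⊤ (by simp)
  have hbij : Function.Bijective e.hom := by
    have : IsIso e := by
      have h0 := W.1.ι_image_top
      have : (homOfLE (X := X.Opens) (show W.1.ι ''ᵁ ⊤ ≤ W.1 from h0.le)) = eqToHom h0 :=
        Subsingleton.elim _ _
      simp only [e, Scheme.Opens.ι_appLE, this, eqToHom_op, eqToHom_map]
      exact ⟨eqToHom (by show Γ(X, W.1.ι ''ᵁ ⊤) = _; rw [h0]), eqToHom_trans _ _, eqToHom_trans _ _⟩
    exact ConcreteCategory.bijective_of_isIso _
  have key : ((I.comap f).ideal W).map e.hom = ((I.ideal U).map (f.app U.1).hom).map e.hom := by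
    rw [← ideal_comap_openImmersion_top (I.comap f) W.1.ι W (by simp),
      ← Scheme.IdealSheafData.comap_comp, show W.1.ι ≫ f = (f ∣_ U.1) ≫ U.1.ι from
        (morphismRestrict_ι f U.1).symm, Scheme.IdealSheafData.comap_comp,
      ideal_comap_top_of_isAffine, ideal_comap_openImmersion_top I U.1.ι U (by simp),
      Ideal.map_map, Ideal.map_map, ← CommRingCat.hom_comp, ← CommRingCat.hom_comp]
    congr 2
    simp only [e, Scheme.Hom.appTop, Scheme.Hom.app_eq_appLE]
    erw [Scheme.Hom.appLE_comp_appLE, Scheme.Hom.appLE_comp_appLE]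
    simp only [morphismRestrict_ι]
    rfl
  have h2 := congrArg (Ideal.comap e.hom) key
  rwa [Ideal.comap_map_of_bijective e.hom hbij, Ideal.comap_map_of_bijective e.hom hbij] at h2

end ChevLib
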