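import Groth.Agent.ChevLib.Basic

/-!
# Affineness from a conductor square
-/

universe u

open CategoryTheory Limits AlgebraicGeometry TopologicalSpace

namespace ChevLib

variable {Z Z' : Scheme.{u}} (ν : Z' ⟶ Z) (C : Z.IdealSheafData)

/-- The pullback of `C.subscheme` to `Z'`, mapping to it. -/
noncomputable def condMap : (C.comap ν).subscheme ⟶ C.subscheme :=
  (C.comapIso ν).hom ≫ pullback.snd _ _

@[reassoc]
lemma condMap_ι : condMap ν C ≫ C.subschemeι = (C.comap ν).subschemeι ≫ ν := by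
  simp [condMap, ← pullback.condition]

variable [IsAffineHom ν] {ι : Type*} (U : ι → Z.affineOpens)

/-- `C` is a conductor on `U`: its image in `Z'` is an ideal of the sections of `Z'`. -/
def IsConductor : Prop :=
  ∀ l, ∀ c ∈ C.ideal (U l), ∀ b : Γ(Z', ν ⁻¹ᵁ (U l).1),
    ∃ c' ∈ C.ideal (U l), (ν.app (U l)).hom c' = (ν.app (U l)).hom c * b

variable {ν C U}

lemma IsConductor.exists_eq_of_mem (hC : IsConductor ν C U) (l : ι)
    {b : Γ(Z', ν ⁻¹ᵁ (U l).1)}
    (hb : b ∈ (C.comap ν).ideal ⟨ν ⁻¹ᵁ (U l).1, (U l).2.preimage ν⟩) :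
    ∃ c ∈ C.ideal (U l), (ν.app (U l)).hom c = b := by
  rw [ideal_comap_of_isAffineHom] at hb
  induction hb using Submodule.span_induction with
  | mem x hx => obtain ⟨c, hc, rfl⟩ := hx; exact ⟨c, hc, rfl⟩
  | zero => exact ⟨0, zero_mem _, map_zero _⟩
  | add x y _ _ hx hy =>
    obtain ⟨a, ha, rfl⟩ := hx
    obtain ⟨b, hb, rfl⟩ := hy
    exact ⟨a + b, add_mem ha hb, map_add _ _ _⟩
  | smul a x _ hx =>
    obtain ⟨c, hc, rfl⟩ := hx
    obtain ⟨c', hc', h⟩ := hC l c hc a
    exact ⟨c', hc', by rw [h, smul_eq_mul, mul_comm]⟩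

/-- A function on `Z'` agreeing on the conductor locus with a function on `C.subscheme` descends. -/
lemma IsConductor.exists_lift (hC : IsConductor ν C U) (hU : ⨆ l, (U l).1 = ⊤)
    (hinj : ∀ W : Z.Opens, Function.Injective (ν.app W))
    (t : Γ(C.subscheme, ⊤)) (b : Γ(Z', ⊤))
    (h : (C.comap ν).subschemeι.appTop.hom b = (condMap ν C).appTop.hom t) :
    ∃ s : Γ(Z, ⊤), ν.appTop.hom s = b ∧ C.subschemeι.appTop.hom s = t := by
  have hloc : ∀ l, ∃ s : Γ(Z, U l), (ν.app (U l)).hom s = res le_top b ∧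
      (C.subschemeι.app (U l)).hom s = res le_top t := by
    intro l
    obtain ⟨t', ht'⟩ := C.subschemeι_app_surjective (U l) (res le_top t)
    have hd : res le_top b - (ν.app (U l)).hom t' ∈
        (C.comap ν).ideal ⟨ν ⁻¹ᵁ (U l).1, (U l).2.preimage ν⟩ := by
      rw [← Scheme.IdealSheafData.ker_subschemeι_app, RingHom.mem_ker, map_sub, sub_eq_zero,
        app_res]
      have h1 := congr(res (le_top (a := (C.comap ν).subschemeι ⁻¹ᵁ (ν ⁻¹ᵁ (U l).1))) $h)
      refine h1.trans ?_
      have h2 : ((C.comap ν).subschemeι ≫ ν).app (U l) =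
          (condMap ν C ≫ C.subschemeι).app (U l) ≫
            (C.comap ν).subscheme.presheaf.map (eqToHom (by rw [condMap_ι])).op := by
        rw [Scheme.Hom.congr_app (condMap_ι ν C).symm (U l)]
      have h3 : ((C.comap ν).subschemeι.app (ν ⁻¹ᵁ (U l).1)).hom ((ν.app (U l)).hom t') =
          ((C.comap ν).subscheme.presheaf.map (eqToHom (by simp only [← Scheme.Hom.comp_preimage, condMap_ι])).op).hom
            (((condMap ν C).app _).hom ((C.subschemeι.app (U l)).hom t')) := congr($(h2).hom t')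
      refine Eq.trans ?_ h3.symm
      erw [ht', app_res]
      exact (res_res _ _ _).symm
    obtain ⟨c, hc, hcb⟩ := hC.exists_eq_of_mem l hd
    refine ⟨t' + c, by rw [map_add, hcb]; ring, ?_⟩
    rw [← Scheme.IdealSheafData.ker_subschemeι_app, RingHom.mem_ker] at hc
    rw [map_add, ht', hc, add_zero]
  choose s hs hs' using hloc
  obtain ⟨S, hS, -⟩ := Z.sheaf.existsUnique_gluing' (fun l => (U l).1) ⊤ (fun l => homOfLE le_top)
    hU.ge s (fun l m => hinj _ (by
      show (ν.app _).hom (res _ (s l)) = (ν.app _).hom (res _ (s m))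
      rw [app_res, app_res, hs, hs, res_res, res_res]))
  refine ⟨S, ?_, ?_⟩
  · apply Z'.sheaf.eq_of_locally_eq' (fun l => ν ⁻¹ᵁ (U l).1) ⊤ (fun l => homOfLE le_top)
    · rw [← Scheme.Hom.preimage_iSup, hU]; exact le_rfl
    intro l
    show res le_top ((ν.app ⊤).hom S) = res le_top b
    rw [← hs l, ← show res le_top S = s l from hS l, app_res]
    rfl
  · apply C.subscheme.sheaf.eq_of_locally_eq' (fun l => C.subschemeι ⁻¹ᵁ (U l).1) ⊤
      (fun l => homOfLE le_top)
    · rw [← Scheme.Hom.preimage_iSup, hU]; exact le_rfl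
    intro l
    show res le_top ((C.subschemeι.app ⊤).hom S) = res le_top t
    rw [← hs' l, ← show res le_top S = s l from hS l, app_res]
    rfl

/-- If `Z'` and the conductor subscheme are affine, then so is `Z`. -/
theorem IsConductor.isAffine (hC : IsConductor ν C U) (hU : ⨆ l, (U l).1 = ⊤)
    (hinj : ∀ W : Z.Opens, Function.Injective (ν.app W)) [Surjective ν] [IsAffine Z']
    [IsAffine C.subscheme] : IsAffine Z := by
  classical
  have : CompactSpace Z := ν.surjective.compactSpace ν.continuous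
  let j := C.subschemeι
  let j' := (C.comap ν).subschemeι
  let CB : Ideal Γ(Z', ⊤) := (C.comap ν).ideal ⟨⊤, isAffineOpen_top Z'⟩
  have hmem : ∀ x, x ∈ CB ↔ j'.appTop.hom x = 0 := by
    intro x
    simp only [CB, ← Scheme.IdealSheafData.ker_subschemeι_app, RingHom.mem_ker]
    rfl
  -- a separating function at every closed point
  have hsep : ∀ z : Z, IsClosed ({z} : Set Z) → ∀ V : Z.Opens, z ∈ V →
      ∃ s : Γ(Z, ⊤), z ∈ Z.basicOpen s ∧ Z.basicOpen s ≤ V := by
    intro z hz V hzV
    obtain ⟨z', hz'⟩ := ν.surjective z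
    let T' : Set Z' := ν ⁻¹' (V : Set Z)ᶜ
    have hT' : IsClosed T' := V.isOpen.isClosed_compl.preimage ν.continuous
    let J : Ideal Γ(Z', ⊤) :=
      PrimeSpectrum.vanishingIdeal ((isAffineOpen_top Z').fromSpec ⁻¹' T')
    have hJ : ∀ f : Γ(Z', ⊤), f ∈ J ↔ ∀ x ∈ T', x ∉ Z'.basicOpen f := by
      intro f
      rw [PrimeSpectrum.mem_vanishingIdeal]
      constructor
      · intro h x hx hxf
        obtain ⟨p, hp⟩ : x ∈ Set.range (isAffineOpen_top Z').fromSpec := by
          rw [IsAffineOpen.range_fromSpec]; trivial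
        have h1 : p ∈ PrimeSpectrum.basicOpen f := by
          rw [← (isAffineOpen_top Z').fromSpec_preimage_basicOpen]
          show (isAffineOpen_top Z').fromSpec p ∈ Z'.basicOpen f
          rwa [hp]
        exact h1 (h p (show _ ∈ T' by rwa [hp]))
      · intro h p hp
        by_contra hf
        have h1 : p ∈ (isAffineOpen_top Z').fromSpec ⁻¹ᵁ Z'.basicOpen f := by
          rw [(isAffineOpen_top Z').fromSpec_preimage_basicOpen]; exact hf
        exact h _ hp h1
    have key : ∃ (t : Γ(C.subscheme, ⊤)) (b : Γ(Z', ⊤)),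
        j'.appTop.hom b = (condMap ν C).appTop.hom t ∧ b ∈ J ∧
          ((∃ w, j w = z ∧ w ∈ C.subscheme.basicOpen t) ∨ z' ∈ Z'.basicOpen b) := by
      by_cases hzC : z ∈ Set.range j
      · obtain ⟨w, hw⟩ := hzC
        obtain ⟨t, htV, hwt⟩ := (isAffineOpen_top C.subscheme).exists_basicOpen_le (V := j ⁻¹ᵁ V)
          ⟨w, show j w ∈ V by rwa [hw]⟩ trivial
        obtain ⟨b0, hb0⟩ := j'.app_surjective ⊤ (isAffineOpen_top Z')
          ((condMap ν C).appTop.hom t)
        have hrad : b0 ∈ (CB ⊔ J).radical := by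
          rw [← PrimeSpectrum.vanishingIdeal_zeroLocus_eq_radical, PrimeSpectrum.mem_vanishingIdeal]
          intro p hp
          by_contra hb
          rw [PrimeSpectrum.mem_zeroLocus, SetLike.coe_subset_coe, sup_le_iff] at hp
          have hxJ : (isAffineOpen_top Z').fromSpec p ∈ T' := by
            have h1 : p ∈ PrimeSpectrum.zeroLocus (J : Set Γ(Z', ⊤)) := hp.2
            rw [PrimeSpectrum.zeroLocus_vanishingIdeal_eq_closure] at h1
            exact (hT'.preimage (isAffineOpen_top Z').fromSpec.continuous).closure_eq.le h1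
          have hxC : (isAffineOpen_top Z').fromSpec p ∈ Set.range j' := by
            rw [Scheme.IdealSheafData.range_subschemeι, SetLike.mem_coe,
              Scheme.IdealSheafData.mem_support_iff_of_mem
                (U := ⟨⊤, isAffineOpen_top Z'⟩) trivial]
            have h1 : p ∈ PrimeSpectrum.zeroLocus (CB : Set Γ(Z', ⊤)) := hp.1
            have h2 := Set.mem_image_of_mem (isAffineOpen_top Z').fromSpec h1
            rw [IsAffineOpen.fromSpec_image_zeroLocus] at h2
            exact h2.1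
          obtain ⟨v, hv⟩ := hxC
          have h3 : v ∈ j' ⁻¹ᵁ Z'.basicOpen b0 := by
            show j' v ∈ Z'.basicOpen b0
            rw [hv]
            show p ∈ (isAffineOpen_top Z').fromSpec ⁻¹ᵁ Z'.basicOpen b0
            rw [(isAffineOpen_top Z').fromSpec_preimage_basicOpen]
            exact hb
          rw [Scheme.preimage_basicOpen, show (j'.app ⊤).hom b0 = _ from hb0] at h3
          replace h3 : v ∈ condMap ν C ⁻¹ᵁ C.subscheme.basicOpen t := by
            rw [Scheme.preimage_basicOpen_top]; exact h3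
          have h4 : ν (j' v) ∈ V := by
            have := htV h3
            rwa [Scheme.Hom.mem_preimage, ← Scheme.Hom.comp_apply, condMap_ι,
              Scheme.Hom.comp_apply] at this
          rw [hv] at h4
          exact hxJ h4
        obtain ⟨k, hk⟩ := hrad
        obtain ⟨c, hc, b, hb, hcb⟩ := Submodule.mem_sup.mp hk
        refine ⟨t ^ (k + 1), b * b0, ?_, Ideal.mul_mem_right _ _ hb, Or.inl ⟨w, hw, ?_⟩⟩
        · have h1 : j'.appTop.hom b = j'.appTop.hom b0 ^ k := by
            rw [← map_pow, ← hcb, map_add, (hmem c).mp hc, zero_add]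
          rw [map_mul, h1, map_pow, ← pow_succ]
          exact congrArg (· ^ (k + 1)) hb0
        · exact (C.subscheme.basicOpen_pow t k.succ_pos).ge hwt
      · have hz'C : z' ∉ Set.range j' := fun ⟨v, hv⟩ => hzC ⟨condMap ν C v, by
          rw [← Scheme.Hom.comp_apply, condMap_ι, Scheme.Hom.comp_apply, hv, hz']⟩
        let O : Z'.Opens := ⟨(T' ∪ Set.range j')ᶜ,
          (hT'.union j'.isClosedEmbedding.isClosed_range).isOpen_compl⟩
        have hzT' : z' ∉ T' := fun h => h (show ν z' ∈ V by rwa [hz'])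
        obtain ⟨f, hfO, hzf⟩ := (isAffineOpen_top Z').exists_basicOpen_le (V := O)
          ⟨z', fun h => h.elim hzT' hz'C⟩ trivial
        have : IsAffine (C.comap ν).subscheme := isAffine_of_isAffineHom j'
        have hnil : IsNilpotent (j'.appTop.hom f) := by
          rw [Scheme.isNilpotent_iff_basicOpen_eq_bot, ← Scheme.preimage_basicOpen_top]
          ext v
          exact ⟨fun h => (hfO h (Or.inr ⟨v, rfl⟩)).elim, fun h => h.elim⟩
        obtain ⟨k, hk⟩ := hnil
        refine ⟨0, f ^ (k + 1), ?_, ?_, Or.inr ?_⟩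
        · rw [map_pow, pow_succ, hk, zero_mul, map_zero]
        · exact Ideal.pow_mem_of_mem _ ((hJ f).mpr fun x hx hxf => hfO hxf (Or.inl hx)) _ k.succ_pos
        · exact (Z'.basicOpen_pow f k.succ_pos).ge hzf
    obtain ⟨t, b, htb, hbJ, hzb⟩ := key
    obtain ⟨s, hsb, hst⟩ := hC.exists_lift hU hinj t b htb
    refine ⟨s, ?_, ?_⟩
    · rcases hzb with ⟨w, rfl, hw⟩ | hw
      · rw [← hst, ← Scheme.preimage_basicOpen_top] at hw
        exact hw
      · rw [← hsb, ← Scheme.preimage_basicOpen_top] at hw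
        exact hz' ▸ hw
    · intro x hx
      by_contra hxV
      obtain ⟨x', rfl⟩ := ν.surjective x
      have hxb : x' ∈ Z'.basicOpen b := by
        rw [← hsb, ← Scheme.preimage_basicOpen_top]; exact hx
      exact (hJ b).mp hbJ x' hxV hxb
  let S : Set Γ(Z, ⊤) := {s | IsAffineOpen (Z.basicOpen s)}
  have hcov : (Set.univ : Set Z) ⊆ ⋃ s : S, (Z.basicOpen (s : Γ(Z, ⊤)) : Set Z) := by
    intro x _
    obtain ⟨z, hzx, hz⟩ := IsClosed.exists_closed_singleton (X := Z) isClosed_closure
      (Set.nonempty_of_mem (subset_closure (Set.mem_singleton x)))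
    obtain ⟨_, ⟨V, hV, rfl⟩, hzV, -⟩ :=
      Z.isBasis_affineOpens.exists_subset_of_mem_open (Set.mem_univ z) isOpen_univ
    obtain ⟨s, hzs, hsV⟩ := hsep z hz V hzV
    have hsA : IsAffineOpen (Z.basicOpen s) := by
      have := hV.basicOpen (res le_top s)
      rwa [Z.basicOpen_res, inf_eq_right.mpr hsV] at this
    refine Set.mem_iUnion.mpr ⟨⟨s, hsA⟩, ?_⟩
    exact (specializes_iff_mem_closure.mpr hzx).mem_open (Z.basicOpen s).isOpen hzs
  obtain ⟨σ, hσ⟩ := isCompact_univ.elim_finite_subcover _ (fun s : S => (Z.basicOpen _).isOpen) hcov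
  refine isAffine_of_isAffineOpen_basicOpen S ?_ (fun s hs => hs)
  have hcov' : ∀ x : Z, ∃ s : σ, x ∈ Z.basicOpen s.1.1 := by
    intro x
    obtain ⟨s, hs, hx⟩ := Set.mem_iUnion₂.mp (hσ (Set.mem_univ x))
    exact ⟨⟨s, hs⟩, hx⟩
  have hspan : ∀ {W : Scheme.{u}} [IsAffine W] (g : W ⟶ Z),
      ∃ a : σ → Γ(W, ⊤), ∑ s, a s * g.appTop.hom s.1.1 = 1 := by
    intro W _ g
    refine Ideal.mem_span_range_iff_exists_fun.mp ((Ideal.eq_top_iff_one _).mp ?_)
    rw [← (isAffineOpen_top W).self_le_iSup_basicOpen_iff]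
    intro w _
    obtain ⟨s, hs⟩ := hcov' (g w)
    refine Opens.mem_iSup.mpr ⟨⟨_, s, rfl⟩, ?_⟩
    rw [← Scheme.preimage_basicOpen_top]; exact hs
  obtain ⟨a, ha⟩ := hspan j
  have hlift : ∀ x : Γ(C.subscheme, ⊤), ∃ y : Γ(Z, ⊤), j.appTop.hom y = x := by
    intro x
    obtain ⟨b, hb⟩ := j'.app_surjective ⊤ (isAffineOpen_top Z') ((condMap ν C).appTop.hom x)
    obtain ⟨y, -, hy⟩ := hC.exists_lift hU hinj x b hb
    exact ⟨y, hy⟩
  choose A hA using fun s => hlift (a s)
  let c := 1 - ∑ s, A s * s.1.1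
  have hc : j.appTop.hom c = 0 := by
    simp only [c, map_sub, map_one, map_sum, map_mul, hA]
    rw [ha, sub_self]
  obtain ⟨β, hβ⟩ := hspan ν
  have hc' : ∀ s : σ, ∃ y : Γ(Z, ⊤), ν.appTop.hom y = ν.appTop.hom c * β s := by
    intro s
    obtain ⟨y, hy, -⟩ := hC.exists_lift hU hinj 0 (ν.appTop.hom c * β s) (by
      rw [map_mul, map_zero]
      have : j'.appTop.hom (ν.appTop.hom c) = (condMap ν C).appTop.hom (j.appTop.hom c) := by
        rw [← RingHom.comp_apply, ← CommRingCat.hom_comp, ← Scheme.Hom.comp_appTop,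
          ← RingHom.comp_apply, ← CommRingCat.hom_comp, ← Scheme.Hom.comp_appTop, condMap_ι]
      rw [this, hc, map_zero, zero_mul])
    exact ⟨y, hy⟩
  choose Y hY using hc'
  have h1 : ∑ s : σ, (A s + Y s) * s.1.1 = 1 := by
    apply hinj ⊤
    change ν.appTop.hom _ = ν.appTop.hom _
    simp only [map_sum, map_mul, map_add, hY, map_one, add_mul, Finset.sum_add_distrib, mul_assoc,
      ← Finset.mul_sum, hβ]
    simp [c, map_sum, map_mul]
  rw [Ideal.eq_top_iff_one, ← h1]
  exact Submodule.sum_mem _ fun s _ => Ideal.mul_mem_left _ _ (Ideal.subset_span s.1.2)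

end ChevLib
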