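import Groth.Agent.ChevLib.Ferrand
import Mathlib.AlgebraicGeometry.Properties

/-!
# Conductors of surjective morphisms onto reduced schemes, and the reducible case
-/

universe u

open CategoryTheory Limits AlgebraicGeometry TopologicalSpace

namespace ChevLib

variable {Z Z' : Scheme.{u}}

lemma app_injective_of_isDominant [IsReduced Z] (ν : Z' ⟶ Z) [IsDominant ν] (W : Z.Opens) :
    Function.Injective (ν.app W) := by
  refine (injective_iff_map_eq_zero (ν.app W).hom).mpr fun x hx => eq_zero_of_basicOpen_eq_bot x ?_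
  by_contra h
  obtain ⟨z, hz⟩ : (Z.basicOpen x : Set Z).Nonempty := by
    rw [Set.nonempty_iff_ne_empty]
    exact fun h' => h (SetLike.coe_injective (by simpa using h'))
  obtain ⟨z', hz'⟩ := ν.denseRange.exists_mem_open (Z.basicOpen x).isOpen ⟨z, hz⟩
  have : z' ∈ ν ⁻¹ᵁ Z.basicOpen x := hz'
  rw [Scheme.preimage_basicOpen] at this
  rw [show (ν.app W) x = 0 from hx] at this
  simp at this

/-- If `C₀ · O'` lies in `O`, then its saturation is a conductor. -/
lemma isConductor_saturation (ν : Z' ⟶ Z) [IsAffineHom ν] (C₀ : Z.IdealSheafData) {ι : Type*}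
    (U : ι → Z.affineOpens)
    (h : ∀ l, ∀ c ∈ C₀.ideal (U l), ∀ b : Γ(Z', ν ⁻¹ᵁ (U l).1),
      ∃ a, (ν.app (U l)).hom a = (ν.app (U l)).hom c * b) :
    IsConductor ν ((C₀.comap ν).map ν) U := by
  intro l c hc b
  rw [Scheme.IdealSheafData.ideal_map_of_isAffineHom, ideal_comap_of_isAffineHom,
    Ideal.mem_comap] at hc
  have key : ∀ y ∈ (C₀.ideal (U l)).map (ν.app (U l)).hom, ∃ a, (ν.app (U l)).hom a = y := by
    intro y hy
    suffices ∀ r, ∃ a, (ν.app (U l)).hom a = r * y by simpa using this 1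
    induction hy using Submodule.span_induction with
    | mem x hx =>
      obtain ⟨c, hc, rfl⟩ := hx
      intro r
      obtain ⟨e, he⟩ := h l c hc r
      exact ⟨e, by rw [he, mul_comm]⟩
    | zero => exact fun r => ⟨0, by simp⟩
    | add x y _ _ hx hy =>
      intro r
      obtain ⟨p, hp⟩ := hx r
      obtain ⟨q, hq⟩ := hy r
      exact ⟨p + q, by rw [map_add, hp, hq, mul_add]⟩
    | smul r x _ ih => exact fun r' => by rw [smul_eq_mul, ← mul_assoc]; exact ih _
  have hmem := Ideal.mul_mem_right b _ hc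
  obtain ⟨a, ha⟩ := key _ hmem
  refine ⟨a, ?_, ha⟩
  rw [Scheme.IdealSheafData.ideal_map_of_isAffineHom, ideal_comap_of_isAffineHom,
    Ideal.mem_comap, ha]
  exact hmem

lemma isAffineHom_of_isSeparated [IsAffine Z'] (ν : Z' ⟶ Z) [Z.IsSeparated] : IsAffineHom ν :=
  MorphismProperty.of_postcomp (W := @IsAffineHom) (W' := @IsSeparated) ν (terminal.from Z)
    inferInstance inferInstance

lemma ne_bot_of_support_ne_top {Z : Scheme.{u}} (I : Z.IdealSheafData) (h : I.support ≠ ⊤) :
    I ≠ ⊥ := by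
  rintro rfl; exact h Scheme.IdealSheafData.support_bot

variable (Z) in
/-- A reduced separated scheme which is the union of two closed affine proper subsets is affine. -/
theorem isAffine_of_not_irreducible [Z.IsSeparated] [IsReduced Z] [Nonempty Z]
    (hprop : ∀ I : Z.IdealSheafData, I ≠ ⊥ → IsAffine I.subscheme)
    (hirr : ¬ IrreducibleSpace Z) : IsAffine Z := by
  obtain ⟨A, B, hA, hB, hcov, hAne, hBne⟩ :
      ∃ A B : Set Z, IsClosed A ∧ IsClosed B ∧ Set.univ ⊆ A ∪ B ∧ A ≠ Set.univ ∧ B ≠ Set.univ := by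
    by_contra h
    simp only [not_exists, not_and] at h
    refine hirr ((irreducibleSpace_def Z).mpr ⟨Set.univ_nonempty, ?_⟩)
    rw [isPreirreducible_iff_isClosed_union_isClosed]
    intro A B hA hB hcov
    by_cases hAu : A = Set.univ
    · exact Or.inl hAu.ge
    · exact Or.inr (not_ne_iff.mp (h A B hA hB hcov hAu)).ge
  let I₁ := Scheme.IdealSheafData.vanishingIdeal ⟨A, hA⟩
  let I₂ := Scheme.IdealSheafData.vanishingIdeal ⟨B, hB⟩
  have h₁ : IsAffine I₁.subscheme := hprop _ (ne_bot_of_support_ne_top _ fun h => hAne (by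
    have := congrArg (fun C : Closeds Z => (C : Set Z)) h
    simpa [I₁] using this))
  have h₂ : IsAffine I₂.subscheme := hprop _ (ne_bot_of_support_ne_top _ fun h => hBne (by
    have := congrArg (fun C : Closeds Z => (C : Set Z)) h
    simpa [I₂] using this))
  let ν : I₁.subscheme ⨿ I₂.subscheme ⟶ Z := coprod.desc I₁.subschemeι I₂.subschemeι
  have : IsAffine (I₁.subscheme ⨿ I₂.subscheme) :=
    .of_isIso ((coprod.mapIso I₁.subscheme.isoSpec I₂.subscheme.isoSpec).hom ≫
      coprodSpec Γ(I₁.subscheme, ⊤) Γ(I₂.subscheme, ⊤))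
  have : IsAffineHom ν := isAffineHom_of_isSeparated ν
  have : Surjective ν := ⟨fun z => by
    rcases hcov (Set.mem_univ z) with hz | hz
    · obtain ⟨w, hw⟩ : z ∈ Set.range I₁.subschemeι := by
        rw [Scheme.IdealSheafData.range_subschemeι]; simpa [I₁] using hz
      exact ⟨(coprod.inl : I₁.subscheme ⟶ _) w, by rw [← Scheme.Hom.comp_apply, coprod.inl_desc, hw]⟩
    · obtain ⟨w, hw⟩ : z ∈ Set.range I₂.subschemeι := by
        rw [Scheme.IdealSheafData.range_subschemeι]; simpa [I₂] using hz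
      exact ⟨(coprod.inr : I₂.subscheme ⟶ _) w,
        by rw [← Scheme.Hom.comp_apply, coprod.inr_desc, hw]⟩⟩
  have : IsDominant ν := ⟨ν.surjective.denseRange⟩
  let C₀ := I₁ ⊔ I₂
  let C := (C₀.comap ν).map ν
  have hC : IsConductor ν C (fun V : Z.affineOpens => V) := by
    refine isConductor_saturation ν C₀ _ fun V c hc b => ?_
    rw [Scheme.IdealSheafData.ideal_sup, Pi.sup_apply] at hc
    obtain ⟨c₁, hc₁, c₂, hc₂, rfl⟩ := Submodule.mem_sup.mp hc
    let W : (I₁.subscheme ⨿ I₂.subscheme).Opens := ν ⁻¹ᵁ V.1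
    have e₁ : (coprod.inl : I₁.subscheme ⟶ _) ⁻¹ᵁ W = I₁.subschemeι ⁻¹ᵁ V.1 := by
      rw [← Scheme.Hom.comp_preimage, coprod.inl_desc]
    have e₂ : (coprod.inr : I₂.subscheme ⟶ _) ⁻¹ᵁ W = I₂.subschemeι ⁻¹ᵁ V.1 := by
      rw [← Scheme.Hom.comp_preimage, coprod.inr_desc]
    obtain ⟨b₁, hb₁⟩ := I₁.subschemeι_app_surjective V
      (res e₁.ge (((coprod.inl : I₁.subscheme ⟶ _).app W).hom b))
    obtain ⟨b₂, hb₂⟩ := I₂.subschemeι_app_surjective V
      (res e₂.ge (((coprod.inr : I₂.subscheme ⟶ _).app W).hom b))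
    refine ⟨c₁ * b₂ + c₂ * b₁, ?_⟩
    -- it suffices to compare after pulling back to the two components
    have hext : ∀ y : Γ(I₁.subscheme ⨿ I₂.subscheme, W),
        ((coprod.inl : I₁.subscheme ⟶ _).app W).hom y = 0 →
        ((coprod.inr : I₂.subscheme ⟶ _).app W).hom y = 0 → y = 0 := by
      intro y hy₁ hy₂
      let i₁ : I₁.subscheme ⟶ I₁.subscheme ⨿ I₂.subscheme := coprod.inl
      let i₂ : I₂.subscheme ⟶ I₁.subscheme ⨿ I₂.subscheme := coprod.inr
      have hcov' : W ≤ (W ⊓ i₁.opensRange) ⊔ (W ⊓ i₂.opensRange) := by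
        intro x hx
        have hr := (isCompl_range_inl_inr I₁.subscheme I₂.subscheme).sup_eq_top
        rcases hr.ge (Set.mem_univ x) with hx' | hx'
        · exact Or.inl ⟨hx, hx'⟩
        · exact Or.inr ⟨hx, hx'⟩
      apply (I₁.subscheme ⨿ I₂.subscheme).sheaf.eq_of_locally_eq₂ (homOfLE inf_le_left)
        (homOfLE inf_le_left) hcov' y 0
      · show res inf_le_left y = res inf_le_left 0
        have := i₁.isIso_app (W ⊓ i₁.opensRange) inf_le_right
        apply (ConcreteCategory.bijective_of_isIso (i₁.app (W ⊓ i₁.opensRange))).1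
        show (i₁.app _).hom _ = (i₁.app _).hom _
        rw [app_res, app_res, show (i₁.app W).hom y = 0 from hy₁, map_zero, map_zero, map_zero]
      · show res inf_le_left y = res inf_le_left 0
        have := i₂.isIso_app (W ⊓ i₂.opensRange) inf_le_right
        apply (ConcreteCategory.bijective_of_isIso (i₂.app (W ⊓ i₂.opensRange))).1
        show (i₂.app _).hom _ = (i₂.app _).hom _
        rw [app_res, app_res, show (i₂.app W).hom y = 0 from hy₂, map_zero, map_zero, map_zero]
    have c₁0 : (I₁.subschemeι.app V).hom c₁ = 0 := by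
      rwa [← Scheme.IdealSheafData.ker_subschemeι_app, RingHom.mem_ker] at hc₁
    have c₂0 : (I₂.subschemeι.app V).hom c₂ = 0 := by
      rwa [← Scheme.IdealSheafData.ker_subschemeι_app, RingHom.mem_ker] at hc₂
    have k₁ : ∀ a : Γ(Z, V), ((coprod.inl : I₁.subscheme ⟶ _).app W).hom ((ν.app V).hom a) =
        res e₁.le ((I₁.subschemeι.app V).hom a) := by
      intro a
      have := Scheme.Hom.congr_app
        (show (coprod.inl : I₁.subscheme ⟶ _) ≫ ν = I₁.subschemeι from coprod.inl_desc _ _) V.1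
      exact congr($(this).hom a)
    have k₂ : ∀ a : Γ(Z, V), ((coprod.inr : I₂.subscheme ⟶ _).app W).hom ((ν.app V).hom a) =
        res e₂.le ((I₂.subschemeι.app V).hom a) := by
      intro a
      have := Scheme.Hom.congr_app
        (show (coprod.inr : I₂.subscheme ⟶ _) ≫ ν = I₂.subschemeι from coprod.inr_desc _ _) V.1
      exact congr($(this).hom a)
    rw [← sub_eq_zero]
    refine hext _ ?_ ?_
    · simp only [map_sub, map_mul, map_add, k₁, c₁0, map_zero, zero_mul, zero_add,
        show (I₁.subschemeι.app V).hom b₁ = _ from hb₁, res_res, res_self, sub_self]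
    · simp only [map_sub, map_mul, map_add, k₂, c₂0, map_zero, zero_mul, add_zero,
        show (I₂.subschemeι.app V).hom b₂ = _ from hb₂, res_res, res_self, sub_self]
  have hCne : C ≠ ⊥ := by
    intro h
    have hle : I₁ ≤ ⊥ := h ▸ le_sup_left.trans (Scheme.IdealSheafData.le_map_comap C₀ ν)
    exact ne_bot_of_support_ne_top I₁ (fun h' => hAne (by
      have := congrArg (fun C : Closeds Z => (C : Set Z)) h'
      simpa [I₁] using this)) (le_bot_iff.mp hle)
  have := hprop C hCne
  exact hC.isAffine (iSup_affineOpens_eq_top Z) (app_injective_of_isDominant ν)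

end ChevLib
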