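import Groth.Agent.ChevLib.Basic

/-!
# Affineness passes through square zero thickenings
-/

universe u

open CategoryTheory Limits AlgebraicGeometry TopologicalSpace

namespace ChevLib

variable {Z Z0 : Scheme.{u}} (i : Z0 ⟶ Z) [IsClosedImmersion i] [Surjective i] [IsAffine Z0]

omit [IsClosedImmersion i] [IsAffine Z0] in
lemma preimage_injective {V V' : Z.Opens} (h : i ⁻¹ᵁ V = i ⁻¹ᵁ V') : V = V' := by
  ext z
  obtain ⟨w, rfl⟩ := i.surjective z
  exact SetLike.ext_iff.mp h w

omit [Surjective i] in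
/-- Every point has an affine neighbourhood cut out by a global function on the closed subscheme. -/
lemma exists_nice_cover :
    ∃ (n : ℕ) (g : Fin n → Γ(Z0, ⊤)) (W : Fin n → Z.affineOpens),
      (∀ l, i ⁻¹ᵁ (W l).1 = Z0.basicOpen (g l)) ∧ Ideal.span (Set.range g) = ⊤ := by
  classical
  have hloc : ∀ w : Z0, ∃ (g : Γ(Z0, ⊤)) (W : Z.affineOpens),
      w ∈ Z0.basicOpen g ∧ i ⁻¹ᵁ W.1 = Z0.basicOpen g := by
    intro w
    obtain ⟨_, ⟨U, hU, rfl⟩, hwU, -⟩ :=
      Z.isBasis_affineOpens.exists_subset_of_mem_open (Set.mem_univ (i w)) isOpen_univ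
    obtain ⟨g, hgU, hwg⟩ := (isAffineOpen_top Z0).exists_basicOpen_le (V := i ⁻¹ᵁ U) ⟨w, hwU⟩
      trivial
    obtain ⟨G, hG⟩ := i.app_surjective U hU (res le_top g)
    refine ⟨g, ⟨Z.basicOpen G, hU.basicOpen G⟩, hwg, ?_⟩
    simp only [Scheme.preimage_basicOpen]
    rw [hG]
    exact (Z0.basicOpen_res g (homOfLE le_top).op).trans (inf_eq_right.mpr hgU)
  choose g W hg hW using hloc
  obtain ⟨s, hs⟩ := isCompact_univ.elim_finite_subcover (fun w => (Z0.basicOpen (g w) : Set Z0))
    (fun w => (Z0.basicOpen (g w)).isOpen) (fun w _ => Set.mem_iUnion.mpr ⟨w, hg w⟩)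
  refine ⟨s.card, fun l => g (s.equivFin.symm l).1, fun l => W (s.equivFin.symm l).1,
    fun l => hW _, ?_⟩
  rw [← (isAffineOpen_top Z0).self_le_iSup_basicOpen_iff]
  intro w _
  obtain ⟨v, hv, hwv⟩ := Set.mem_iUnion₂.mp (hs (Set.mem_univ w))
  exact Opens.mem_iSup.mpr ⟨⟨_, s.equivFin ⟨v, hv⟩, rfl⟩, by simpa using hwv⟩

omit [Surjective i] [IsAffine Z0] in
lemma mem_ker_iff (U : Z.affineOpens) (x : Γ(Z, U)) :
    x ∈ i.ker.ideal U ↔ (i.app U).hom x = 0 := by
  rw [Scheme.Hom.ker_apply]; exact Iff.rfl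

omit [IsClosedImmersion i] [Surjective i] [IsAffine Z0] in
lemma mul_eq_zero_of_sq (hsq : i.ker * i.ker = ⊥) (U : Z.affineOpens) {x y : Γ(Z, U)}
    (hx : x ∈ i.ker.ideal U) (hy : y ∈ i.ker.ideal U) : x * y = 0 := by
  have h : (i.ker * i.ker).ideal U = i.ker.ideal U * i.ker.ideal U := rfl
  have := Ideal.mul_mem_mul hx hy
  rw [← h, hsq] at this
  simpa using this

omit [IsClosedImmersion i] [Surjective i] [IsAffine Z0] in
lemma pow_mul_congr (hsq : i.ker * i.ker = ⊥) (U : Z.affineOpens) {a b d : Γ(Z, U)}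
    (hab : a - b ∈ i.ker.ideal U) (hd : d ∈ i.ker.ideal U) (n : ℕ) : a ^ n * d = b ^ n * d := by
  have h : a ^ n - b ^ n ∈ i.ker.ideal U := by
    obtain ⟨c, hc⟩ := sub_dvd_pow_sub_pow a b n
    rw [hc]
    exact Ideal.mul_mem_right _ _ hab
  have := mul_eq_zero_of_sq i hsq U h hd
  rwa [sub_mul, sub_eq_zero] at this

/-- A square zero thickening of an affine scheme: global functions lift. -/
theorem appTop_surjective_of_sq_eq_bot (hsq : i.ker * i.ker = ⊥) :
    Function.Surjective i.appTop := by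
  classical
  intro t
  obtain ⟨n, g, W, hW, hspan⟩ := exists_nice_cover i
  let I := i.ker
  have hlift : ∀ (a : Γ(Z0, ⊤)) (l : Fin n), ∃ x : Γ(Z, W l),
      (i.app (W l)).hom x = res le_top a := fun a l =>
    i.app_surjective (W l).1 (W l).2 (res le_top a)
  choose L hL using hlift
  -- intersections are basic opens
  let D (l m : Fin n) : Z.affineOpens := ⟨Z.basicOpen (L (g m) l), (W l).2.basicOpen _⟩
  have hD : ∀ l m, (D l m).1 = (W l).1 ⊓ (W m).1 := by
    intro l m
    apply preimage_injective i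
    simp only [D, Scheme.preimage_basicOpen, Scheme.Hom.preimage_inf]
    rw [hL, hW m]
    exact Z0.basicOpen_res (g m) (homOfLE le_top).op
  have hD1 : ∀ l m, (D l m).1 ≤ (W l).1 := fun l m => (hD l m).le.trans inf_le_left
  have hD2 : ∀ l m, (D l m).1 ≤ (W m).1 := fun l m => (hD l m).le.trans inf_le_right
  have hdiff : ∀ (a : Γ(Z0, ⊤)) (l m : Fin n) (U : Z.affineOpens) (h1 : U.1 ≤ (W l).1)
      (h2 : U.1 ≤ (W m).1), res h1 (L a l) - res h2 (L a m) ∈ I.ideal U := by
    intro a l m U h1 h2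
    rw [mem_ker_iff, map_sub, app_res i h1, app_res i h2, hL, hL, res_res, res_res, sub_self]
  let d (l m : Fin n) : Γ(Z, D l m) := res (hD1 l m) (L t l) - res (hD2 l m) (L t m)
  -- extend `G ^ k * d` to `W l`
  have hext : ∀ l m, ∃ k : ℕ, ∀ k' ≥ k, ∃ e ∈ I.ideal (W l),
      res (hD1 l m) e = res (hD1 l m) (L (g m) l) ^ k' * d l m := by
    intro l m
    have hd : d l m ∈ I.ideal (D l m) := hdiff t l m (D l m) (hD1 l m) (hD2 l m)
    have hmap := I.map_ideal_basicOpen (W l) (L (g m) l)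
    let : Algebra Γ(Z, W l) Γ(Z, D l m) := (res (hD1 l m)).toAlgebra
    have : IsLocalization.Away (L (g m) l) Γ(Z, D l m) :=
      (W l).2.isLocalization_of_eq_basicOpen _ _ rfl
    have hd' : d l m ∈ (I.ideal (W l)).map (algebraMap Γ(Z, W l) Γ(Z, D l m)) := hmap.ge hd
    obtain ⟨⟨⟨e, he⟩, ⟨_, k, rfl⟩⟩, hek⟩ :=
      (IsLocalization.mem_map_algebraMap_iff (Submonoid.powers (L (g m) l)) _).mp hd'
    refine ⟨k, fun k' hk' => ⟨L (g m) l ^ (k' - k) * e, Ideal.mul_mem_left _ _ he, ?_⟩⟩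
    have hek' : res (hD1 l m) e = res (hD1 l m) (L (g m) l) ^ k * d l m := by
      rw [← map_pow, mul_comm]; exact hek.symm
    rw [map_mul, map_pow, hek', ← mul_assoc, ← pow_add, Nat.sub_add_cancel hk']
  choose k hk using hext
  let N := Finset.univ.sup fun p : Fin n × Fin n => k p.1 p.2
  choose e heI he using fun l m => hk l m N (Finset.le_sup (f := fun p : Fin n × Fin n => k p.1 p.2)
    (Finset.mem_univ (l, m)))
  -- the cocycle defect is killed by a power
  have hdefect : ∀ l p m, ∃ M : ℕ, ∀ M' ≥ M, res (hD1 l p) (L (g m) l) ^ M' *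
      (res (hD1 l p) (e l m) - res (hD2 l p) (e p m)) =
        res (hD1 l p) (L (g m) l) ^ (M' + N) * d l p := by
    intro l p m
    let G := res (hD1 l p) (L (g m) l)
    let V : Z.affineOpens := ⟨Z.basicOpen G, (D l p).2.basicOpen G⟩
    have hV : V.1 ≤ (D l p).1 := Z.basicOpen_le G
    have hVm : V.1 ≤ (W m).1 := by
      refine le_trans ?_ (hD2 l m)
      exact (Z.basicOpen_res (L (g m) l) (homOfLE (hD1 l p)).op).trans_le inf_le_right
    have hVlm : V.1 ≤ (D l m).1 := (le_inf (hV.trans (hD1 l p)) hVm).trans (hD l m).ge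
    have hVpm : V.1 ≤ (D p m).1 := (le_inf (hV.trans (hD2 l p)) hVm).trans (hD p m).ge
    have key : res hV (res (hD1 l p) (e l m) - res (hD2 l p) (e p m) - G ^ N * d l p) = 0 := by
      have h1 := congr(res hVlm $(he l m))
      have h2 := congr(res hVpm $(he p m))
      simp only [map_sub, map_mul, map_pow, res_res, d, G] at h1 h2 ⊢
      rw [h1, h2, ← pow_mul_congr i hsq V (hdiff (g m) l p V (hV.trans (hD1 l p))
        (hV.trans (hD2 l p))) (hdiff t p m V (hV.trans (hD2 l p)) hVm) N]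
      ring
    obtain ⟨M, hM⟩ := exists_pow_mul_eq_zero_of_res_basicOpen_eq_zero_of_isCompact
      Z (D l p).2.isCompact _ G key
    refine ⟨M, fun M' hM' => ?_⟩
    have hM2 : G ^ M' *
        (res (hD1 l p) (e l m) - res (hD2 l p) (e p m) - G ^ N * d l p) = 0 := by
      rw [← Nat.sub_add_cancel hM', pow_add, mul_assoc, hM, mul_zero]
    rw [mul_sub, sub_eq_zero, ← mul_assoc, ← pow_add] at hM2
    exact hM2
  choose M hM using hdefect
  let MM := Finset.univ.sup fun p : Fin n × Fin n × Fin n => M p.1 p.2.1 p.2.2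
  -- partition of unity
  have hspan' : Ideal.span (Set.range fun m => g m ^ (MM + N)) = ⊤ := by
    rw [← Ideal.span_pow_eq_top _ hspan (MM + N), ← Set.range_comp]
    rfl
  obtain ⟨h, hh⟩ := Ideal.mem_span_range_iff_exists_fun.mp
    ((Ideal.eq_top_iff_one _).mp hspan')
  let c (l : Fin n) : Γ(Z, W l) := ∑ m, L (h m) l * (L (g m) l ^ MM * e l m)
  have hcI : ∀ l, c l ∈ I.ideal (W l) := fun l =>
    Submodule.sum_mem _ fun m _ => Ideal.mul_mem_left _ _ (Ideal.mul_mem_left _ _ (heI l m))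
  let T (l : Fin n) : Γ(Z, W l) := L t l - c l
  have hres : ∀ {U V : Z.affineOpens} (hUV : V.1 ≤ U.1) {x : Γ(Z, U)}, x ∈ I.ideal U →
      res hUV x ∈ I.ideal V := fun {U V} hUV x hx =>
    I.ideal_le_comap_ideal (U := V) (V := U) hUV hx
  have hagree : ∀ l p, res (hD1 l p) (T l) = res (hD2 l p) (T p) := by
    intro l p
    suffices res (hD1 l p) (c l) - res (hD2 l p) (c p) = d l p by
      simp only [T, map_sub, d] at this ⊢
      linear_combination -this
    have hterm : ∀ m, res (hD1 l p) (L (h m) l * (L (g m) l ^ MM * e l m)) -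
        res (hD2 l p) (L (h m) p * (L (g m) p ^ MM * e p m)) =
        res (hD1 l p) (L (h m) l) * res (hD1 l p) (L (g m) l) ^ (MM + N) * d l p := by
      intro m
      simp only [map_mul, map_pow]
      have he' := hres (hD2 l p) (heI p m)
      have a1 : res (hD2 l p) (L (h m) p) * (res (hD2 l p) (L (g m) p) ^ MM *
          res (hD2 l p) (e p m)) = res (hD1 l p) (L (h m) l) *
            (res (hD1 l p) (L (g m) l) ^ MM * res (hD2 l p) (e p m)) := by
        rw [← pow_mul_congr i hsq (D l p) (hdiff (g m) l p _ (hD1 l p) (hD2 l p)) he' MM]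
        simpa only [pow_one] using (pow_mul_congr i hsq (D l p)
          (hdiff (h m) l p _ (hD1 l p) (hD2 l p)) (Ideal.mul_mem_left _ _ he') 1).symm
      rw [a1, ← mul_sub, ← mul_sub, hM l p m MM
        (Finset.le_sup (f := fun q : Fin n × Fin n × Fin n => M q.1 q.2.1 q.2.2)
          (Finset.mem_univ (l, p, m))), mul_assoc]
    simp only [c, map_sum, ← Finset.sum_sub_distrib, hterm, ← Finset.sum_mul]
    have h1 : (∑ m, res (hD1 l p) (L (h m) l) * res (hD1 l p) (L (g m) l) ^ (MM + N)) - 1 ∈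
        I.ideal (D l p) := by
      rw [mem_ker_iff]
      simp only [map_sub, map_sum, map_mul, map_pow, app_res, hL, res_res, map_one]
      simp only [← map_pow, ← map_mul, ← map_sum]
      rw [hh, map_one, sub_self]
    have := mul_eq_zero_of_sq i hsq (D l p) h1 (hdiff t l p (D l p) (hD1 l p) (hD2 l p))
    rw [sub_mul, one_mul, sub_eq_zero] at this
    exact this
  -- glue
  have hcov : (⊤ : Z.Opens) ≤ ⨆ l, (W l).1 := by
    intro z _
    obtain ⟨w, rfl⟩ := i.surjective z
    have hw := ((isAffineOpen_top Z0).self_le_iSup_basicOpen_iff.mpr hspan) (trivial : w ∈ ⊤)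
    obtain ⟨⟨_, l, rfl⟩, hl⟩ := Opens.mem_iSup.mp hw
    exact Opens.mem_iSup.mpr ⟨l, ((SetLike.ext_iff.mp (hW l)) w).mpr hl⟩
  obtain ⟨S, hS, -⟩ := Z.sheaf.existsUnique_gluing' (fun l => (W l).1) ⊤ (fun l => homOfLE le_top)
    hcov T (fun l p => by
      have := congr(res (hD l p).ge $(hagree l p))
      simp only [res_res] at this
      exact this)
  refine ⟨S, ?_⟩
  apply Z0.sheaf.eq_of_locally_eq' (fun l => i ⁻¹ᵁ (W l).1) ⊤ (fun l => homOfLE le_top)
  · intro w _
    obtain ⟨l, hl⟩ := Opens.mem_iSup.mp (hcov (trivial : i w ∈ ⊤))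
    exact Opens.mem_iSup.mpr ⟨l, hl⟩
  intro l
  have h1 : res le_top ((i.app ⊤).hom S) = (i.app (W l)).hom (res le_top S) := (app_res i _ S).symm
  have h2 : res le_top S = T l := hS l
  show res le_top ((i.app ⊤).hom S) = res le_top t
  rw [h1, h2, map_sub, hL, (mem_ker_iff i _ _).mp (hcI l), sub_zero]

/-- A square zero thickening of an affine scheme is affine. -/
theorem isAffine_of_sq_eq_bot (hsq : i.ker * i.ker = ⊥) : IsAffine Z := by
  classical
  obtain ⟨n, g, W, hW, hspan⟩ := exists_nice_cover i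
  choose G hG using fun l => appTop_surjective_of_sq_eq_bot i hsq (g l)
  have hb : ∀ l, Z.basicOpen (G l) = (W l).1 := fun l => by
    apply preimage_injective i
    rw [hW l, Scheme.preimage_basicOpen]
    exact congrArg _ (hG l)
  refine isAffine_of_isAffineOpen_basicOpen (Set.range G) ?_ (by
    rintro _ ⟨l, rfl⟩; rw [hb l]; exact (W l).2)
  obtain ⟨a, ha⟩ := Ideal.mem_span_range_iff_exists_fun.mp
    ((Ideal.eq_top_iff_one _).mp hspan)
  choose A hA using fun l => appTop_surjective_of_sq_eq_bot i hsq (a l)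
  have hu : IsUnit (∑ l, A l * G l) := by
    suffices h : Z.basicOpen (∑ l, A l * G l) = ⊤ from
      RingedSpace.isUnit_of_isUnit_germ Z.toRingedSpace ⊤ _ fun z hz =>
        (Z.mem_basicOpen _ z hz).mp (h.ge trivial)
    apply preimage_injective i
    have h1 : i.appTop (∑ l, A l * G l) = 1 := by
      rw [map_sum, ← ha]
      exact Finset.sum_congr rfl fun l _ => by rw [map_mul, hA, hG]
    rw [Scheme.preimage_basicOpen]
    exact (congrArg _ h1).trans (by simp)
  exact Ideal.eq_top_of_isUnit_mem _ (Submodule.sum_mem _ fun l _ =>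
    Ideal.mul_mem_left _ _ (Ideal.subset_span ⟨l, rfl⟩)) hu

end ChevLib
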